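import Cfsg.Agent.Omega.NO3S.SN.TwoP.Frame
import Cfsg.Agent.Omega.NO3S.SN2.FF.Abs
import Cfsg.Agent.Omega.FFBr.Final
import Cfsg.Agent.Omega.NO3b.K0.Abs

/-!
# No over-offender on `M / I`, `I` any normal subgroup

`R` a minimal parabolic over its Sylow 2-subgroup `T`, `I ≤ M` normalised by `R`, `M` elementary abelian, `M = I⟨w ^ R⟩`,
`[w, T] ≤ I`, `[w, R] ≰ I`.  For `A ≤ R` elementary abelian, `|A : C_A(M/I)| |C_{M}(A mod I)| ≤ |M|`.
-/

set_option autoImplicit false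
set_option linter.unusedSectionVars false

namespace Cfsg.Agent.Omega.NO3S.SN.TwoP

open Subgroup Cfsg Cfsg.Agent.ZN Cfsg.Agent.ZN.ChoiceSit
open Cfsg.Agent.MinSimple.MinParabolic (IsMinPar IsMin)
open Cfsg.Agent.Omega.NO3b.K0 (cact cact_mk yact coe_yact)
open Cfsg.Agent.Omega.NO3S.SN2.FF (XG prG prG_surjective prG_smul prG_eq_iff prG_eq_one abs_of_act)
open Cfsg.Agent.Omega.FFBr
open scoped commutatorElement

universe u

variable {G : Type u} [Group G] [Finite G]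

theorem norm_of {R M : Subgroup G} (h : ∀ r ∈ R, ∀ e ∈ M, r * e * r⁻¹ ∈ M) : R ≤ normalizer (M : Set G) := by
  intro r hr
  rw [mem_normalizer_iff]
  refine fun e => ⟨h r hr e, fun he => ?_⟩
  have h1 := h r⁻¹ (inv_mem hr) _ he
  have e1 : r⁻¹ * (r * e * r⁻¹) * r⁻¹⁻¹ = e := by group
  rwa [e1] at h1

theorem noOver {T R M I A K F₁ : Subgroup G} (hT : Syl T R) (hmin : IsMinPar T R) (hIM : I ≤ M)
    (Mc : ∀ v ∈ M, ∀ w ∈ M, v * w = w * v) (Ms : ∀ v ∈ M, v * v = 1)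
    (nI : ∀ r ∈ R, ∀ e ∈ I, r * e * r⁻¹ ∈ I) (nM : ∀ r ∈ R, ∀ e ∈ M, r * e * r⁻¹ ∈ M) {w : G} (hw : w ∈ M)
    (hwT : ∀ t ∈ T, t * w * t⁻¹ * w⁻¹ ∈ I) (hwR : ∃ r ∈ R, r * w * r⁻¹ * w⁻¹ ∉ I)
    (gen : ∀ K : Subgroup G, I ≤ K → (∀ x ∈ R, x * w * x⁻¹ ∈ K) → M ≤ K) (hAR : A ≤ R)
    (Ac : ∀ a ∈ A, ∀ b ∈ A, a * b = b * a) (As : ∀ a ∈ A, a * a = 1)
    (hK : ∀ a ∈ A, (∀ e ∈ M, a * e * a⁻¹ * e⁻¹ ∈ I) → a ∈ K)
    (hF : ∀ e, e ∈ F₁ ↔ e ∈ M ∧ ∀ a ∈ A, a * e * a⁻¹ * e⁻¹ ∈ I) :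
    K.relIndex A * Nat.card F₁ ≤ Nat.card M := by
  have hfact : Fact (Nat.Prime 2) := ⟨Nat.prime_two⟩
  have hnI : R ≤ normalizer (I : Set G) := norm_of nI
  have hnM : R ≤ normalizer (M : Set G) := norm_of nM
  have hcomm : ∀ v ∈ M, ∀ w ∈ M, v * w * v⁻¹ = w := fun v hv w hw => by rw [Mc v hv w hw, mul_inv_cancel_right]
  have hn : (I.subgroupOf M).Normal := ⟨fun d hd x => by
    have h1 : x * d * x⁻¹ = d := Subtype.ext (hcomm x x.2 d d.2)
    rw [h1]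
    exact hd⟩
  let _ : MulDistribMulAction R (M ⧸ I.subgroupOf M) := MulDistribMulAction.compHom _ (cact hnI hnM)
  have hact : ∀ (g : R) (v w : M), (w : G) = g * v * (g : G)⁻¹ →
      g • (QuotientGroup.mk v : M ⧸ I.subgroupOf M) = QuotientGroup.mk w := by
    intro g v w hvw
    have h1 : g • (QuotientGroup.mk v : M ⧸ I.subgroupOf M) = ((yact hnM g v : M) : M ⧸ I.subgroupOf M) := rfl
    rw [h1]
    congr 1
    exact Subtype.ext hvw.symm
  have mk_eq : ∀ {v w : M}, (QuotientGroup.mk v : M ⧸ I.subgroupOf M) = QuotientGroup.mk w ↔ (v : G) * (w : G)⁻¹ ∈ I := by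
    intro v w
    rw [QuotientGroup.eq, mem_subgroupOf]
    have h1 : ((v⁻¹ * w : M) : G) = ((v : G) * (w : G)⁻¹)⁻¹ := by
      change (v : G)⁻¹ * w = _
      rw [mul_inv_rev, inv_inv]
      exact (Mc _ (inv_mem v.2) _ w.2)
    rw [h1]
    exact inv_mem_iff
  have smul_eq_iff : ∀ {g : R} {v : M}, g • (QuotientGroup.mk v : M ⧸ I.subgroupOf M) = QuotientGroup.mk v ↔
      (g : G) * v * (g : G)⁻¹ * (v : G)⁻¹ ∈ I := by
    intro g v
    rw [hact g v ⟨g * v * (g : G)⁻¹, nM g g.2 v v.2⟩ rfl, mk_eq]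
  obtain ⟨M₁, hM₁⟩ := hmin.exists_isMin
  obtain ⟨P, hP⟩ := syl_iff.1 hT
  have hTP : T.subgroupOf R = (P : Subgroup R) := by
    rw [← hP, Subgroup.subgroupOf, comap_map_eq_self_of_injective R.subtype_injective]
  rw [hTP] at hM₁
  have hmemP : ∀ t : R, t ∈ P ↔ (t : G) ∈ T := by
    intro t
    change t ∈ (P : Subgroup R) ↔ _
    rw [← hTP, mem_subgroupOf]
  have hfix : ∀ t ∈ P, t • (QuotientGroup.mk (⟨w, hw⟩ : M) : M ⧸ I.subgroupOf M) = QuotientGroup.mk ⟨w, hw⟩ := by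
    intro t ht
    exact smul_eq_iff.2 (hwT _ ((hmemP t).1 ht))
  obtain ⟨S', hS', habs⟩ := abs_of_act (Γ := R) (N := M ⧸ I.subgroupOf M) (P := P) hM₁ (by
    intro v w
    obtain ⟨v, rfl⟩ := QuotientGroup.mk_surjective v
    obtain ⟨w, rfl⟩ := QuotientGroup.mk_surjective w
    rw [← QuotientGroup.mk_mul, ← QuotientGroup.mk_mul]
    congr 1
    exact Subtype.ext (Mc v v.2 w w.2)) (by
    intro v
    obtain ⟨v, rfl⟩ := QuotientGroup.mk_surjective v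
    rw [← QuotientGroup.mk_mul, ← QuotientGroup.mk_one]
    congr 1
    exact Subtype.ext (Ms v v.2)) (by
    intro W hW
    have h2 : M ≤ (W.comap (QuotientGroup.mk' (I.subgroupOf M))).map M.subtype := by
      apply gen
      · intro d hd
        refine ⟨⟨d, hIM hd⟩, ?_, rfl⟩
        change (QuotientGroup.mk (⟨d, hIM hd⟩ : M) : M ⧸ I.subgroupOf M) ∈ W
        have h3 : (QuotientGroup.mk (⟨d, hIM hd⟩ : M) : M ⧸ I.subgroupOf M) = 1 :=
          (QuotientGroup.eq_one_iff _).2 hd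
        rw [h3]
        exact one_mem _
      · intro x hx
        refine ⟨⟨x * w * x⁻¹, nM x hx w hw⟩, ?_, rfl⟩
        change (QuotientGroup.mk (⟨x * w * x⁻¹, nM x hx w hw⟩ : M) : M ⧸ I.subgroupOf M) ∈ W
        rw [← hact ⟨x, hx⟩ ⟨w, hw⟩ ⟨x * w * x⁻¹, nM x hx w hw⟩ rfl]
        exact hW _ hfix _
    rw [eq_top_iff]
    intro q _
    obtain ⟨v, rfl⟩ := QuotientGroup.mk_surjective q
    obtain ⟨w, hw, hwv⟩ := h2 v.2
    have h4 : w = v := Subtype.ext hwv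
    rw [← h4]
    exact hw) (by
    obtain ⟨r, hr, hrw⟩ := hwR
    exact ⟨QuotientGroup.mk ⟨w, hw⟩, hfix, ⟨r, hr⟩, fun h0 => hrw (smul_eq_iff.1 h0)⟩)
  -- the image of `A`
  set B : Subgroup (XG R (M ⧸ I.subgroupOf M)) := (A.subgroupOf R).map (prG R (M ⧸ I.subgroupOf M)) with hB
  have Bc : ∀ a ∈ B, ∀ b ∈ B, a * b = b * a := by
    rintro _ ⟨a, ha, rfl⟩ _ ⟨b, hb, rfl⟩
    rw [← map_mul, ← map_mul]
    congr 1
    exact Subtype.ext (Ac a ha b hb)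
  have Bs : ∀ a ∈ B, a * a = 1 := by
    rintro _ ⟨a, ha, rfl⟩
    rw [← map_mul, ← map_one (prG R (M ⧸ I.subgroupOf M))]
    congr 1
    exact Subtype.ext (As a ha)
  have hno : Nat.card B ≤ (ClassTwoFusion.Quad.cv (M ⧸ I.subgroupOf M) (B : Set (XG R (M ⧸ I.subgroupOf M)))).index := by
    by_contra hcon
    push Not at hcon
    have hne : B ≠ ⊥ := by
      intro h0
      rw [h0, Subgroup.card_bot] at hcon
      have : (ClassTwoFusion.Quad.cv (M ⧸ I.subgroupOf M)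
        ((⊥ : Subgroup (XG R (M ⧸ I.subgroupOf M))) : Set (XG R (M ⧸ I.subgroupOf M)))).index ≠ 0 :=
        index_ne_zero_of_finite
      omega
    have h1 := (aStmt _ _ S' _ habs ⟨B, Bc, Bs, hne, hcon.le⟩).1 B Bc Bs
    omega
  have h1 : K.relIndex A ≤ Nat.card B := by
    have h2 : (prG R (M ⧸ I.subgroupOf M)).ker.relIndex (A.subgroupOf R) = Nat.card B := relIndex_ker _ _
    rw [← h2, ← relIndex_subgroupOf hAR]
    have h3 : (prG R (M ⧸ I.subgroupOf M)).ker ⊓ A.subgroupOf R ≤ K.subgroupOf R := by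
      rintro a ⟨ha1, ha2⟩
      refine hK _ ha2 fun e he => ?_
      have h4 := prG_eq_one.1 (MonoidHom.mem_ker.1 ha1) (QuotientGroup.mk ⟨e, he⟩)
      exact smul_eq_iff.1 h4
    have h4 : (K.subgroupOf R).relIndex (A.subgroupOf R) ≤
        ((prG R (M ⧸ I.subgroupOf M)).ker ⊓ A.subgroupOf R).relIndex (A.subgroupOf R) :=
      Nat.le_of_dvd (Nat.pos_of_ne_zero (index_ne_zero_of_finite
        (H := ((prG R (M ⧸ I.subgroupOf M)).ker ⊓ A.subgroupOf R).subgroupOf (A.subgroupOf R))))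
        (relIndex_dvd_of_le_left _ h3)
    rwa [inf_relIndex_right] at h4
  have h2 : (ClassTwoFusion.Quad.cv (M ⧸ I.subgroupOf M) (B : Set (XG R (M ⧸ I.subgroupOf M)))).index * Nat.card F₁ =
      Nat.card M := by
    set W := ClassTwoFusion.Quad.cv (M ⧸ I.subgroupOf M) (B : Set (XG R (M ⧸ I.subgroupOf M))) with hW
    have h3 : (W.comap (QuotientGroup.mk' (I.subgroupOf M))).index = W.index :=
      index_comap_of_surjective _ (QuotientGroup.mk'_surjective _)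
    have h4 : W.comap (QuotientGroup.mk' (I.subgroupOf M)) = F₁.subgroupOf M := by
      ext v
      rw [mem_comap, mem_subgroupOf, hF]
      change (QuotientGroup.mk v : M ⧸ I.subgroupOf M) ∈ W ↔ _
      rw [hW, ClassTwoFusion.Quad.mem_cv]
      constructor
      · intro h5
        refine ⟨v.2, fun a ha => ?_⟩
        have h6 := h5 (prG R _ ⟨a, hAR ha⟩) ⟨⟨a, hAR ha⟩, ha, rfl⟩
        rw [prG_smul] at h6
        exact smul_eq_iff.1 h6
      · rintro ⟨-, h5⟩ _ ⟨a, ha, rfl⟩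
        rw [prG_smul]
        exact smul_eq_iff.2 (h5 a ha)
    have h5 : F₁ ≤ M := fun e he => ((hF e).1 he).1
    rw [← h3, h4, ← Nat.card_congr (subgroupOfEquivOfLe h5).toEquiv, mul_comm]
    exact Subgroup.card_mul_index _
  rw [← h2]
  exact Nat.mul_le_mul_right _ (h1.trans hno)

end Cfsg.Agent.Omega.NO3S.SN.TwoP
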