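import Cfsg.Agent.Omega.Lin.Cnt
import Cfsg.Agent.Omega.SQ1.Bau

/-!
# THEOREM TWO PAIRS (helper586, #20800 (4)): the abstract count

* `count2` : `E`, `E ^ a` commute and are elementary abelian, `B` commutes with `a` and normalises `E`,
  `C_B(E) ≤ B₁ ≤ B`, `p` is a pairing between `E` and `B₁` with radical `C_{B₁}(E)` in `B₁`, and
  `[e, b] = [e', b] ^ a` implies `p (e, b) = 0`; `|XX : C_XX(B)| ≤ |B : C_B(XX)|` for `XX = E E ^ a`.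
  Then `|E : C_E(B)| ≤ |B : B₁|`.
* `split2` : `E = V E₁ E₂`, `|E_j : {x : [x, B] ≤ E₁ ∩ E₂}| ≥ k`: `|E : C_E(B)| ≥ k ^ 2`.
-/

set_option autoImplicit false
set_option linter.unusedSectionVars false

namespace Cfsg.Agent.Omega.NO3S.SN.TwoP

open Subgroup Cfsg.Agent.ZN.ChoiceBase
open Cfsg.Agent.Omega.SQ1.Bau (mem_sup_comm card_sup_comm)

universe u

variable {G : Type u} [Group G] [Finite G]

/-- commutators of products -/
theorem comm_prod {b e f : G} (h : e * (b * f * b⁻¹ * f⁻¹) = (b * f * b⁻¹ * f⁻¹) * e) :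
    b * (e * f) * b⁻¹ * (e * f)⁻¹ = (b * e * b⁻¹ * e⁻¹) * (b * f * b⁻¹ * f⁻¹) := by
  have h1 : b * (e * f) * b⁻¹ * (e * f)⁻¹ = b * e * b⁻¹ * ((b * f * b⁻¹ * f⁻¹) * e⁻¹) := by group
  have h2 : (b * f * b⁻¹ * f⁻¹) * e⁻¹ = e⁻¹ * (b * f * b⁻¹ * f⁻¹) := by
    rw [eq_inv_mul_iff_mul_eq, ← mul_assoc, h, mul_assoc, mul_inv_cancel, mul_one]
  rw [h1, h2]
  group

theorem comm_iff {b e : G} : b * e * b⁻¹ * e⁻¹ = 1 ↔ b * e = e * b := by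
  rw [mul_inv_eq_one, mul_inv_eq_iff_eq_mul]

/-- **The count.** -/
theorem count2 {B B₁ E U : Subgroup G} {a : G} (hEU : E ≤ U) (hEa : ∀ e ∈ E, a * e * a⁻¹ ∈ U)
    (ab : ∀ u ∈ U, ∀ v ∈ U, u * v = v * u)
    (haB : ∀ b ∈ B, a * b = b * a) (h1 : B₁ ≤ B)
    (hc : ∀ b ∈ B, (∀ e ∈ E, b * e = e * b) → b ∈ B₁) (p : G → G → ZMod 2)
    (p1 : ∀ e ∈ E, ∀ e' ∈ E, ∀ b ∈ B₁, p (e * e') b = p e b + p e' b)
    (p2 : ∀ e ∈ E, ∀ b ∈ B₁, ∀ b' ∈ B₁, p e (b * b') = p e b + p e b')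
    (rad : ∀ b ∈ B₁, (∀ e ∈ E, p e b = 0) → ∀ e ∈ E, b * e = e * b)
    (key : ∀ e ∈ E, ∀ e' ∈ E, ∀ b ∈ B₁, b * e * b⁻¹ * e⁻¹ = a * (b * e' * b⁻¹ * e'⁻¹) * a⁻¹ → p e b = 0)
    (ex : Nat.card ↥(E ⊔ cj a E) * Nat.card ↥(B ⊓ centralizer ((E ⊔ cj a E : Subgroup G) : Set G)) ≤
      Nat.card B * Nat.card ↥((E ⊔ cj a E) ⊓ centralizer (B : Set G))) :
    Nat.card E * Nat.card B₁ ≤ Nat.card B * Nat.card ↥(E ⊓ centralizer (B : Set G)) := by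
  classical
  have hEaU : cj a E ≤ U := by
    rintro _ ⟨e, he, rfl⟩
    exact hEa e he
  have hXU : E ⊔ cj a E ≤ U := sup_le hEU hEaU
  have hca : ∀ b ∈ B, ∀ e : G, b * (a * e * a⁻¹) * b⁻¹ * (a * e * a⁻¹)⁻¹ = a * (b * e * b⁻¹ * e⁻¹) * a⁻¹ := by
    intro b hb e
    have h2 := haB b hb
    have h3 : a⁻¹ * b⁻¹ = b⁻¹ * a⁻¹ := by rw [← mul_inv_rev, ← mul_inv_rev, h2]
    calc b * (a * e * a⁻¹) * b⁻¹ * (a * e * a⁻¹)⁻¹ = (b * a) * e * (a⁻¹ * b⁻¹) * a * e⁻¹ * a⁻¹ := by group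
      _ = (a * b) * e * (b⁻¹ * a⁻¹) * a * e⁻¹ * a⁻¹ := by rw [h2, h3]
      _ = _ := by group
  have p0 : ∀ b ∈ B₁, p 1 b = 0 := fun b hb => by
    have := p1 1 (one_mem _) 1 (one_mem _) b hb
    rw [mul_one] at this
    exact left_eq_add.1 this
  -- the radical in `E`
  let K : Subgroup G :=
    { carrier := {e | e ∈ E ∧ ∀ b ∈ B₁, p e b = 0}
      one_mem' := ⟨one_mem _, p0⟩
      mul_mem' := by
        rintro e e' ⟨he, h2⟩ ⟨he', h3⟩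
        exact ⟨mul_mem he he', fun b hb => by rw [p1 e he e' he' b hb, h2 b hb, h3 b hb, add_zero]⟩
      inv_mem' := by
        rintro e ⟨he, h2⟩
        refine ⟨inv_mem he, fun b hb => ?_⟩
        have h3 := p1 e he e⁻¹ (inv_mem he) b hb
        rw [mul_inv_cancel, p0 b hb, h2 b hb, zero_add] at h3
        exact h3.symm }
  have hKE : K ≤ E := fun e he => he.1
  -- (1)
  have hrad : B₁ ⊓ centralizer (E : Set G) ≤ B₁ := inf_le_left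
  have c1 := Lin.card_pair' (F := ZMod 2) E B₁ K (B₁ ⊓ centralizer (E : Set G)) hKE hrad p p1 p2
    (by
      intro c e he
      rcases (by decide : ∀ t : ZMod 2, t = 0 ∨ t = 1) c with hc | hc
      · exact ⟨1, one_mem _, fun b hb => by rw [hc, zero_mul, p0 b hb]⟩
      · exact ⟨e, he, fun b _ => by rw [hc, one_mul]⟩)
    (fun e he b hb => he.2 b hb)
    (fun b hb h2 => ⟨hb, mem_centralizer_iff.2 fun e he => (rad b hb h2 e he).symm⟩)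
  -- (2)
  set C := (E ⊔ cj a E) ⊓ centralizer (B : Set G) with hC
  have hCU : C ≤ U := inf_le_left.trans hXU
  have hcm : ∀ {X Y : Subgroup G}, X ≤ U → Y ≤ U → ∀ x ∈ X, ∀ y ∈ Y, x * y = y * x :=
    fun hX hY x hx y hy => ab x (hX hx) y (hY hy)
  have hYU : cj a E ⊔ C ≤ U := sup_le hEaU hCU
  have hXX : E ⊔ (cj a E ⊔ C) = E ⊔ cj a E := by
    apply le_antisymm
    · exact sup_le le_sup_left (sup_le le_sup_right inf_le_left)
    · exact sup_le le_sup_left (le_sup_left.trans le_sup_right)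
  have hEY : E ⊓ (cj a E ⊔ C) ≤ K := by
    rintro e ⟨he, heY⟩
    refine ⟨he, fun b hb => ?_⟩
    obtain ⟨y, ⟨e', he', rfl⟩, c, hcC, hec⟩ := mem_sup_comm (hcm hEaU hCU) heY
    refine key e he e' he' b hb ?_
    have hbB := h1 hb
    have h2 := hca b hbB e'
    have h3 : b * c = c * b := mem_centralizer_iff.1 hcC.2 b hbB
    change e = a * e' * a⁻¹ * c at hec
    have h4 : b * c * b⁻¹ * c⁻¹ = 1 := comm_iff.2 h3
    rw [hec, comm_prod (by rw [h4, one_mul, mul_one]), h4, mul_one, h2]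
  have c2 := card_sup_comm (hcm hEU hYU)
  rw [hXX] at c2
  have c3 := card_sup_comm (hcm hEaU hCU)
  have c4 : Nat.card ↥(E ⊓ (cj a E ⊔ C)) ≤ Nat.card K := Subgroup.card_le_of_le hEY
  have c5 : Nat.card ↥(cj a E ⊓ C) = Nat.card ↥(E ⊓ centralizer (B : Set G)) := by
    rw [← card_cj a (E ⊓ centralizer (B : Set G))]
    congr 2
    ext y
    constructor
    · rintro ⟨⟨e, he, rfl⟩, hy⟩
      refine ⟨e, ⟨he, mem_centralizer_iff.2 fun b hb => ?_⟩, rfl⟩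
      have h2 : b * (a * e * a⁻¹) = (a * e * a⁻¹) * b := mem_centralizer_iff.1 hy.2 b hb
      have h3 := comm_iff.2 h2
      rw [hca b hb] at h3
      exact comm_iff.1 (conj_eq_one_iff.1 h3)
    · rintro ⟨e, ⟨he, he'⟩, rfl⟩
      refine ⟨⟨e, he, rfl⟩, mem_sup_right ⟨e, he, rfl⟩, mem_centralizer_iff.2 fun b hb => ?_⟩
      change b * (a * e * a⁻¹) = (a * e * a⁻¹) * b
      rw [← comm_iff, hca b hb, comm_iff.2 (mem_centralizer_iff.1 he' b hb)]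
      group
  rw [c5, card_cj] at c3
  -- (3)
  have c6 : B ⊓ centralizer ((E ⊔ cj a E : Subgroup G) : Set G) = B₁ ⊓ centralizer (E : Set G) := by
    apply le_antisymm
    · rintro b ⟨hb, hbX⟩
      have h2 : b ∈ centralizer (E : Set G) :=
        mem_centralizer_iff.2 fun e he => mem_centralizer_iff.1 hbX e (mem_sup_left he)
      exact ⟨hc b hb fun e he => (mem_centralizer_iff.1 h2 e he).symm, h2⟩
    · rintro b ⟨hb, hbE⟩
      refine ⟨h1 hb, ?_⟩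
      have h2 : E ⊔ cj a E ≤ centralizer ({b} : Set G) := by
        refine sup_le (fun e he => mem_centralizer_singleton_iff.2 (mem_centralizer_iff.1 hbE e he)) ?_
        rintro _ ⟨e, he, rfl⟩
        refine mem_centralizer_singleton_iff.2 (Eq.symm ?_)
        change b * (a * e * a⁻¹) = (a * e * a⁻¹) * b
        rw [← comm_iff, hca b (h1 hb), comm_iff.2 (mem_centralizer_iff.1 hbE e he).symm]
        group
      exact mem_centralizer_iff.2 fun y hy => mem_centralizer_singleton_iff.1 (h2 hy)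
  rw [c6] at ex
  -- the numbers
  have q1 : 0 < Nat.card K := Nat.card_pos
  have q2 : 0 < Nat.card C := Nat.card_pos
  have q3 : 0 < Nat.card E := Nat.card_pos
  have q4 : 0 < Nat.card ↥(B₁ ⊓ centralizer (E : Set G)) := Nat.card_pos
  have q5 : 0 < Nat.card ↥(E ⊓ centralizer (B : Set G)) := Nat.card_pos
  have q6 : 0 < Nat.card ↥(E ⊓ (cj a E ⊔ C)) := Nat.card_pos
  generalize Nat.card ↥(E ⊔ cj a E) = xx at *
  generalize Nat.card ↥(E ⊓ (cj a E ⊔ C)) = t at *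
  generalize Nat.card ↥(cj a E ⊔ C) = y at *
  generalize Nat.card ↥(B₁ ⊓ centralizer (E : Set G)) = cb at *
  generalize Nat.card ↥(E ⊓ centralizer (B : Set G)) = ce at *
  generalize Nat.card C = c at *
  generalize Nat.card K = k at *
  generalize Nat.card E = e at *
  generalize Nat.card B = b at *
  generalize Nat.card B₁ = b₁ at *
  -- c1 : b₁ * k ≤ e * cb ; c2 : xx * t = e * y ; c3 : y * ce = e * c ; c4 : t ≤ k ; ex : xx * cb ≤ b * c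
  have r1 : e * e * c ≤ xx * k * ce := by
    calc e * e * c = e * (e * c) := by ring
      _ = e * (y * ce) := by rw [c3]
      _ = (e * y) * ce := by ring
      _ = xx * t * ce := by rw [c2]
      _ ≤ xx * k * ce := Nat.mul_le_mul_right _ (Nat.mul_le_mul_left _ c4)
  have r2 : (e * b₁) * (e * c * cb * k) ≤ (b * ce) * (e * c * cb * k) := by
    calc (e * b₁) * (e * c * cb * k) = (e * e * c) * cb * (b₁ * k) := by ring
      _ ≤ (xx * k * ce) * cb * (e * cb) := Nat.mul_le_mul (Nat.mul_le_mul_right _ r1) c1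
      _ = (xx * cb) * (k * ce * e * cb) := by ring
      _ ≤ (b * c) * (k * ce * e * cb) := Nat.mul_le_mul_right _ ex
      _ = (b * ce) * (e * c * cb * k) := by ring
  exact Nat.le_of_mul_le_mul_right r2 (by positivity)

/-- **The lower bound.** -/
theorem split2 {B E₁ E₂ V U : Subgroup G} {k : ℕ} (ab : ∀ u ∈ U, ∀ v ∈ U, u * v = v * u)
    (hV : V ≤ U) (h1 : E₁ ≤ U) (h2 : E₂ ≤ U) (hBV : V ≤ centralizer (B : Set G))
    (hB1 : ∀ b ∈ B, ∀ e ∈ E₁, b * e * b⁻¹ ∈ E₁) (hB2 : ∀ b ∈ B, ∀ e ∈ E₂, b * e * b⁻¹ ∈ E₂) {F₁ F₂ : Subgroup G}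
    (hF1 : ∀ e, e ∈ F₁ ↔ e ∈ E₁ ∧ ∀ b ∈ B, b * e * b⁻¹ * e⁻¹ ∈ E₁ ⊓ E₂)
    (hF2 : ∀ e, e ∈ F₂ ↔ e ∈ E₂ ∧ ∀ b ∈ B, b * e * b⁻¹ * e⁻¹ ∈ E₁ ⊓ E₂)
    (k1 : k * Nat.card F₁ ≤ Nat.card E₁) (k2 : k * Nat.card F₂ ≤ Nat.card E₂) :
    k * k * Nat.card ↥((V ⊔ (E₁ ⊔ E₂)) ⊓ centralizer (B : Set G)) ≤ Nat.card ↥(V ⊔ (E₁ ⊔ E₂)) := by
  classical
  have hcm : ∀ {X Y : Subgroup G}, X ≤ U → Y ≤ U → ∀ x ∈ X, ∀ y ∈ Y, x * y = y * x :=
    fun hX hY x hx y hy => ab x (hX hx) y (hY hy)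
  have hF1U : F₁ ≤ U := fun e he => h1 ((hF1 e).1 he).1
  have hF2U : F₂ ≤ U := fun e he => h2 ((hF2 e).1 he).1
  have h12 : E₁ ⊔ E₂ ≤ U := sup_le h1 h2
  set C := (V ⊔ (E₁ ⊔ E₂)) ⊓ centralizer (B : Set G) with hC
  have hCU : C ≤ U := inf_le_left.trans (sup_le hV h12)
  have hinf : F₁ ⊓ F₂ = E₁ ⊓ E₂ := by
    apply le_antisymm
    · exact fun e he => ⟨((hF1 e).1 he.1).1, ((hF2 e).1 he.2).1⟩
    · intro e he
      have h3 : ∀ b ∈ B, b * e * b⁻¹ * e⁻¹ ∈ E₁ ⊓ E₂ := fun b hb =>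
        mem_inf.2 ⟨E₁.mul_mem (hB1 b hb e he.1) (E₁.inv_mem he.1), E₂.mul_mem (hB2 b hb e he.2) (E₂.inv_mem he.2)⟩
      exact ⟨(hF1 e).2 ⟨he.1, h3⟩, (hF2 e).2 ⟨he.2, h3⟩⟩
  have hC12 : C ⊓ (E₁ ⊔ E₂) ≤ F₁ ⊔ F₂ := by
    rintro x ⟨hxC, hx⟩
    obtain ⟨e, he, e', he', rfl⟩ := mem_sup_comm (hcm h1 h2) hx
    have h3 : ∀ b ∈ B, b * e * b⁻¹ * e⁻¹ ∈ E₁ ⊓ E₂ ∧ b * e' * b⁻¹ * e'⁻¹ ∈ E₁ ⊓ E₂ := by
      intro b hb
      have m1 : b * e * b⁻¹ * e⁻¹ ∈ E₁ := mul_mem (hB1 b hb e he) (inv_mem he)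
      have m2 : b * e' * b⁻¹ * e'⁻¹ ∈ E₂ := mul_mem (hB2 b hb e' he') (inv_mem he')
      have h4 : b * (e * e') * b⁻¹ * (e * e')⁻¹ = 1 := comm_iff.2 (mem_centralizer_iff.1 hxC.2 b hb)
      rw [comm_prod (ab _ (h1 he) _ (h2 m2))] at h4
      have h5 : b * e * b⁻¹ * e⁻¹ = (b * e' * b⁻¹ * e'⁻¹)⁻¹ := eq_inv_of_mul_eq_one_left h4
      have h6 : b * e' * b⁻¹ * e'⁻¹ = (b * e * b⁻¹ * e⁻¹)⁻¹ := eq_inv_of_mul_eq_one_right h4
      exact ⟨mem_inf.2 ⟨m1, by rw [h5]; exact E₂.inv_mem m2⟩, mem_inf.2 ⟨by rw [h6]; exact E₁.inv_mem m1, m2⟩⟩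
    exact mul_mem_sup ((hF1 e).2 ⟨he, fun b hb => (h3 b hb).1⟩) ((hF2 e').2 ⟨he', fun b hb => (h3 b hb).2⟩)
  have hsup : C ⊔ (E₁ ⊔ E₂) = V ⊔ (E₁ ⊔ E₂) := by
    apply le_antisymm
    · exact sup_le inf_le_left le_sup_right
    · exact sup_le (fun v hv => mem_sup_left ⟨mem_sup_left hv, hBV hv⟩) le_sup_right
  have c1 := card_sup_comm (hcm h1 h2)
  have c2 := card_sup_comm (hcm hF1U hF2U)
  have c3 := card_sup_comm (hcm hCU h12)
  rw [hsup] at c3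
  rw [hinf] at c2
  have c4 : Nat.card ↥(C ⊓ (E₁ ⊔ E₂)) ≤ Nat.card ↥(F₁ ⊔ F₂) := Subgroup.card_le_of_le hC12
  have q1 : 0 < Nat.card ↥(E₁ ⊓ E₂) := Nat.card_pos
  have q2 : 0 < Nat.card ↥(F₁ ⊔ F₂) := Nat.card_pos
  generalize Nat.card ↥(V ⊔ (E₁ ⊔ E₂)) = x at *
  generalize Nat.card ↥(C ⊓ (E₁ ⊔ E₂)) = t at *
  generalize Nat.card ↥(F₁ ⊔ F₂) = f at *
  generalize Nat.card ↥(E₁ ⊔ E₂) = e at *
  generalize Nat.card ↥(E₁ ⊓ E₂) = i at *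
  generalize Nat.card C = c at *
  generalize Nat.card E₁ = e₁ at *
  generalize Nat.card E₂ = e₂ at *
  generalize Nat.card F₁ = f₁ at *
  generalize Nat.card F₂ = f₂ at *
  -- c1 : e * i = e₁ * e₂, c2 : f * i = f₁ * f₂, c3 : x * t = c * e, c4 : t ≤ f
  have r1 : k * k * f * i ≤ e * i := by
    calc k * k * f * i = (k * k) * (f * i) := by ring
      _ = (k * f₁) * (k * f₂) := by rw [c2]; ring
      _ ≤ e₁ * e₂ := Nat.mul_le_mul k1 k2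
      _ = e * i := c1.symm
  have r2 : k * k * f ≤ e := Nat.le_of_mul_le_mul_right r1 q1
  have r3 : (k * k * c) * f ≤ x * f := by
    calc (k * k * c) * f = c * (k * k * f) := by ring
      _ ≤ c * e := Nat.mul_le_mul_left _ r2
      _ = x * t := c3.symm
      _ ≤ x * f := Nat.mul_le_mul_left _ c4
  exact Nat.le_of_mul_le_mul_right r3 q2

end Cfsg.Agent.Omega.NO3S.SN.TwoP
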