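import Cfsg.Agent.Omega.NO3S.SN.TwoP.Main
import Cfsg.Agent.Omega.NO3S.SN2.FF.OneC

/-!
# THEOREM TWO PAIRS (helper586 #20800), closed

* `outS` : the FF step (helper421);
* `Fr.two_pairs_end`, `Fr.two_pairs_zj_end`.
-/

set_option autoImplicit false
set_option linter.unusedSectionVars false

namespace Cfsg.Agent.Omega.NO3S.SN.TwoP

open Subgroup Cfsg Cfsg.Agent.ZN
open Cfsg.Agent.Omega.NSix.Base

universe u

/-- **The FF step.** -/
theorem outS (G : Type u) [Group G] [Finite G] : OutS G := fun _ _ _ _ _ _ _ _ _ _ s => by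
  obtain ⟨F, h1, h2, -, h3⟩ := s.out FFBr.aStmt
  exact ⟨F, h1, h2, h3⟩

variable {G : Type u} [Group G] [Finite G] {S : Sylow 2 G} {P : Subgroup G} {m : ℕ}
  {ε : (Fin (2 ^ m + 1) → ZMod 2) → G}

namespace Fr

variable {M₀ D T R : Subgroup G} (f : Fr S P ε M₀ D T R)
include f

/-- **THEOREM TWO PAIRS** -/
theorem two_pairs_end
    (hV2 : ∀ g ∈ normalizer (zl (S : Subgroup G) P : Set G), g ∈ centralizer (D : Set G) →
      ∀ v ∈ zl (S : Subgroup G) P, g * v * g⁻¹ * v⁻¹ ∈ D)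
    (hX : ∀ i j : Fin (2 ^ m + 1), i ≠ j → i ≠ 0 → j ≠ 0 →
      centralizer {g : G | ∃ x : Fin (2 ^ m + 1) → ZMod 2, x i = x j ∧ g = ε x} ≤ M₀) : False :=
  f.two_pairs (outS G) hV2 hX

/-- **THEOREM TWO PAIRS**, `Ω₁(Z(J(S))) ≤ D` -/
theorem two_pairs_zj_end (hzj : zj (S : Subgroup G) ≤ D)
    (hX : ∀ i j : Fin (2 ^ m + 1), i ≠ j → i ≠ 0 → j ≠ 0 →
      centralizer {g : G | ∃ x : Fin (2 ^ m + 1) → ZMod 2, x i = x j ∧ g = ε x} ≤ M₀) : False :=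
  f.two_pairs_zj (outS G) hzj hX

end Fr

end Cfsg.Agent.Omega.NO3S.SN.TwoP
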