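import Cfsg.Agent.Omega.NO3S.SN.TwoP.N2p

/-!
# THEOREM SN, K-free part, case `J(S) ≰ O₂(P)`: the relative frame (helper586 #20800, helper28 #21330)

`M₀` any subgroup with `N_G(V) ∩ C_G(z) ≤ M₀`; `D` maximal among the subgroups `z ∈ D ≤ V` with `C_G(D) ≰ M₀`;
`O₂(P) ≤ T ∈ Syl₂(C_G(D))`; `R` minimal with `T ≤ R ≤ C_G(D)`, `R ≰ M₀`.

* `Fr.exists_of` : existence;
* `Fr.T_le` : `T ≤ N_G(V)`;
* `Fr.TI` : `c ∈ C_G(D) ∖ M₀` implies `V ∩ V^c = D`;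
* `Fr.isMinPar`, `Fr.sylR` : `R` is a minimal parabolic over `T ∈ Syl₂(R)`;
* `Fr.of_le`, `Fr.of_ne` : a normal subgroup `N₀` of `R` with `N₀ ≤ M₀` or `N₀ T ≠ R` has `T ∩ N₀ ≤ O₂(R)`, `N₀ ≤ M₀`;
* `Fr.nJ` : `J(O₂(P)) ≰ O₂(R)`;
* `Fr.normT` : `N_R(T) ≤ N_G(V)`;
* `Fr.norm_cj` : `O₂(R)` normalises `V^x`, `x ∈ R`;
* `Fr.mem_of_fix`: `v ∈ V`, `[v, R] ≤ D` implies `v ∈ D`; `Fr.oddGen` the same for `O²(R)`.
-/

set_option autoImplicit false
set_option linter.unusedSectionVars false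

namespace Cfsg.Agent.Omega.NO3S.SN.TwoP

open Subgroup Cfsg Cfsg.Agent.PLocal.ThompsonJ Cfsg.Agent.ZN Cfsg.Agent.ZN.ChoiceBase
open Cfsg.Agent.ZN.ChoiceSit Cfsg.Agent.PLocal.ElemAbSup
open Cfsg.Agent.Omega.MinPar
open Cfsg.Agent.Omega.S5.Def Cfsg.Agent.Omega.S5.Syl Cfsg.Agent.Omega.S5.Pair
open Cfsg.Agent.Omega.NSix.Base Cfsg.Agent.Omega.NSix.Basic
open Cfsg.Agent.Omega.SQ1.Bau (mem_AA_of_comm elem_comm elem_sq mem_sup_comm card_sup_comm)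
open Cfsg.Agent.Omega.NSix.CaseJ.Base Cfsg.Agent.Omega.NSix.CaseJ.Exact
open Cfsg.Agent.Omega.NSix.CaseJ.LemQ
open Cfsg.Agent.MinSimple.MinParabolic (IsMinPar)
open Cfsg.Agent.MinSimple.VModule (oddGen oddGen_le mem_oddGen le_normalizer_oddGen oddGen_le_of_sup)

universe u

variable {G : Type u} [Group G] [Finite G] {S : Sylow 2 G} {P : Subgroup G} {m : ℕ}
  {ε : (Fin (2 ^ m + 1) → ZMod 2) → G}

/-- **The relative frame.** -/
structure Fr (S : Sylow 2 G) (P : Subgroup G) {m : ℕ} (ε : (Fin (2 ^ m + 1) → ZMod 2) → G)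
    (M₀ D T R : Subgroup G) : Prop where
  h : NSix.CaseJ.Base.Hyp S P ε
  hN : SN.Hyp S P m ε
  le_M₀ : normalizer (zl (S : Subgroup G) P : Set G) ⊓ centralizer ({zz ε 0} : Set G) ≤ M₀
  D_le : D ≤ zl (S : Subgroup G) P
  z_mem : zz ε 0 ∈ D
  max : ∀ E : Subgroup G, D < E → E ≤ zl (S : Subgroup G) P → centralizer (E : Set G) ≤ M₀
  QT : o2 P ≤ T
  syl : Syl T (centralizer (D : Set G))
  TR : T ≤ R
  RC : R ≤ centralizer (D : Set G)
  nR : ¬ R ≤ M₀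
  min : ∀ K : Subgroup G, T ≤ K → K < R → K ≤ M₀

/-- Existence of `T` and `R`. -/
theorem Fr.exists_of (h : NSix.CaseJ.Base.Hyp S P ε) (hN : SN.Hyp S P m ε) {M₀ D : Subgroup G}
    (hL : normalizer (zl (S : Subgroup G) P : Set G) ⊓ centralizer ({zz ε 0} : Set G) ≤ M₀)
    (hD : D ≤ zl (S : Subgroup G) P) (hz : zz ε 0 ∈ D)
    (hmax : ∀ E : Subgroup G, D < E → E ≤ zl (S : Subgroup G) P → centralizer (E : Set G) ≤ M₀)
    (hn : ¬ centralizer (D : Set G) ≤ M₀) : ∃ T R : Subgroup G, Fr S P ε M₀ D T R := by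
  have hQD : o2 P ≤ centralizer (D : Set G) :=
    (sylQ h).1.trans (centralizer_le (SetLike.coe_subset_coe.2 hD))
  obtain ⟨T, hT, hQT⟩ := exists_syl (sylQ h).2.1 hQD
  obtain ⟨R, ⟨hR1, hR2, hR3⟩, hmin⟩ := Set.Finite.exists_minimal
    (s := {K : Subgroup G | T ≤ K ∧ K ≤ centralizer (D : Set G) ∧ ¬ K ≤ M₀}) (Set.toFinite _)
    ⟨centralizer (D : Set G), hT.1, le_rfl, hn⟩
  refine ⟨T, R, h, hN, hL, hD, hz, hmax, hQT, hT, hR1, hR2, hR3, fun K hK hKR => ?_⟩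
  by_contra hcon
  exact hKR.not_ge (hmin ⟨hK, hKR.le.trans hR2, hcon⟩ hKR.le)

/-- Existence of `D`, `T` and `R`. -/
theorem Fr.exists_of' (h : NSix.CaseJ.Base.Hyp S P ε) (hN : SN.Hyp S P m ε) {M₀ : Subgroup G}
    (hL : normalizer (zl (S : Subgroup G) P : Set G) ⊓ centralizer ({zz ε 0} : Set G) ≤ M₀)
    (hn : ¬ centralizer ({zz ε 0} : Set G) ≤ M₀) : ∃ D T R : Subgroup G, Fr S P ε M₀ D T R := by
  obtain ⟨D, ⟨hD1, hD2, hD3⟩, hmax⟩ := Set.Finite.exists_maximal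
    (s := {D : Subgroup G | zz ε 0 ∈ D ∧ D ≤ zl (S : Subgroup G) P ∧ ¬ centralizer (D : Set G) ≤ M₀})
    (Set.toFinite _) ⟨zpowers (zz ε 0), mem_zpowers _, zpowers_le.2 (zz_mem h.ev 0), fun h0 => hn (le_trans (by
      intro x hx
      rw [mem_centralizer_iff]
      intro y hy
      obtain ⟨k, rfl⟩ := mem_zpowers_iff.1 hy
      have h1 : Commute (zz ε 0) x := (mem_centralizer_singleton_iff.1 hx).symm
      exact (h1.zpow_left k).eq) h0)⟩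
  refine ⟨D, Fr.exists_of h hN hL hD2 hD1 (fun E hDE hEV => ?_) hD3⟩
  by_contra hcon
  exact hDE.not_ge (hmax ⟨hDE.le hD1, hEV, hcon⟩ hDE.le)

/-- `R = O²(R) T` -/
theorem oddGen_sup {R T : Subgroup G} (hS : Syl T R) : oddGen R ⊔ T = R := by
  have : Fact (Nat.Prime 2) := ⟨Nat.prime_two⟩
  have hSyl := syl_not_dvd hS
  apply le_antisymm (sup_le (oddGen_le R) hS.1)
  have hN : ((oddGen R).subgroupOf R).Normal := normal_subgroupOf_of_le_normalizer (le_normalizer_oddGen R)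
  have h1 : IsPGroup 2 (R ⧸ (oddGen R).subgroupOf R) := by
    intro q
    obtain ⟨x, rfl⟩ := QuotientGroup.mk_surjective q
    obtain ⟨a, m, hm, ha⟩ := Nat.exists_eq_pow_mul_and_not_dvd (orderOf_pos (x : G)).ne' 2 (by norm_num)
    refine ⟨a, ?_⟩
    rw [← QuotientGroup.mk_pow, QuotientGroup.eq_one_iff, mem_subgroupOf]
    refine mem_oddGen (R.pow_mem x.2 _) ?_
    have hm0 : 0 < m := Nat.pos_of_ne_zero (by rintro rfl; simp at hm)
    have h2 : orderOf ((x : G) ^ 2 ^ a) = m := by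
      rw [orderOf_pow_of_dvd (by positivity) (ha ▸ Dvd.intro _ rfl), ha, Nat.mul_div_cancel_left _ (by positivity)]
    rw [coe_pow, h2]
    exact Nat.not_even_iff_odd.1 fun h => hm h.two_dvd
  obtain ⟨k, hk⟩ := IsPGroup.iff_card.1 h1
  have h2 : (oddGen R ⊔ T).relIndex R ∣ 2 ^ k := by
    have h3 : (oddGen R ⊔ T).relIndex R ∣ (oddGen R).relIndex R := relIndex_dvd_of_le_left _ le_sup_left
    have h4 : (oddGen R).relIndex R = 2 ^ k := by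
      rw [← hk, relIndex, index_eq_card]
    rwa [h4] at h3
  obtain ⟨j, -, hj⟩ := (Nat.dvd_prime_pow Nat.prime_two).1 h2
  have h5 : (oddGen R ⊔ T).relIndex R ∣ T.relIndex R := relIndex_dvd_of_le_left _ le_sup_right
  rw [hj] at h5
  rcases Nat.eq_zero_or_pos j with rfl | hj0
  · rw [pow_zero] at hj
    exact relIndex_eq_one.1 hj
  · exact absurd ((dvd_pow_self 2 hj0.ne').trans h5) hSyl

namespace Fr

variable {M₀ D T R : Subgroup G} (f : Fr S P ε M₀ D T R)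
include f

theorem D_cz : centralizer (D : Set G) ≤ centralizer ({zz ε 0} : Set G) :=
  centralizer_le (Set.singleton_subset_iff.2 f.z_mem)

theorem R_cz : R ≤ centralizer ({zz ε 0} : Set G) := f.RC.trans f.D_cz

theorem T2 : IsPGroup 2 T := f.syl.2.1

theorem JT : jj (o2 P) ≤ T := (ChoiceBase.jj_le _).trans f.QT

/-- `T ≤ N_G(V)`. -/
theorem T_le : T ≤ normalizer (zl (S : Subgroup G) P : Set G) :=
  two_le f.h f.hN f.T2 (f.TR.trans f.R_cz) f.JT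

theorem T_M₀ : T ≤ M₀ := (le_inf f.T_le (f.TR.trans f.R_cz)).trans f.le_M₀

/-- **(TI)** -/
theorem TI {c v : G} (hc : c ∈ centralizer (D : Set G)) (hcM : c ∉ M₀) (hv : v ∈ zl (S : Subgroup G) P)
    (hv' : c * v * c⁻¹ ∈ zl (S : Subgroup G) P) : v ∈ D := by
  by_contra hvD
  set V := zl (S : Subgroup G) P with hV
  set E := V ⊓ cj c V with hE
  have hcD : ∀ d ∈ D, c * d * c⁻¹ = d := fun d hd => by
    rw [← mem_centralizer_iff.1 hc d hd, mul_inv_cancel_right]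
  have hDE : D ≤ E := fun d hd => ⟨f.D_le hd, ⟨d, f.D_le hd, hcD d hd⟩⟩
  have hvE : c * v * c⁻¹ ∈ E := ⟨hv', ⟨v, hv, rfl⟩⟩
  have hvD' : c * v * c⁻¹ ∉ D := fun h0 => hvD (by
    have h1 := hcD _ h0
    have h2 : v = c⁻¹ * (c * v * c⁻¹) * c := by group
    have h3 : c⁻¹ * (c * v * c⁻¹) * c = c * v * c⁻¹ := by
      have h4 := mem_centralizer_iff.1 hc _ h0
      calc c⁻¹ * (c * v * c⁻¹) * c = c⁻¹ * ((c * v * c⁻¹) * c) := by group
        _ = c⁻¹ * (c * (c * v * c⁻¹)) := by rw [h4]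
        _ = c * v * c⁻¹ := by group
    rw [h2, h3]; exact h0)
  have hlt : D < E := lt_of_le_of_ne hDE fun e => hvD' (e ▸ hvE)
  have hEM := f.max E hlt inf_le_left
  have hEz : centralizer (E : Set G) ≤ centralizer ({zz ε 0} : Set G) :=
    centralizer_le (Set.singleton_subset_iff.2 (hDE f.z_mem))
  -- Sylow subgroups of `C_G(E)`
  have hQ1 : o2 P ≤ centralizer (E : Set G) :=
    (sylQ f.h).1.trans (centralizer_le (SetLike.coe_subset_coe.2 inf_le_left))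
  have hQ2 : cj c (o2 P) ≤ centralizer (E : Set G) := by
    have h1 := cj_mono c (sylQ f.h).1
    rw [cj_centralizer] at h1
    exact h1.trans (centralizer_le (SetLike.coe_subset_coe.2 inf_le_right))
  obtain ⟨T₁, hT₁, hQT₁⟩ := exists_syl (sylQ f.h).2.1 hQ1
  obtain ⟨T₂, hT₂, hQT₂⟩ := exists_syl (isPGroup_cj c (sylQ f.h).2.1) hQ2
  obtain ⟨d, hd, hdT⟩ := syl_conj hT₁ hT₂
  have h1 : T₁ ≤ normalizer (V : Set G) :=
    two_le f.h f.hN hT₁.2.1 (hT₁.1.trans hEz) ((ChoiceBase.jj_le _).trans hQT₁)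
  have h2 : o2 P ≤ normalizer ((cj (c⁻¹ * d) V : Subgroup G) : Set G) := by
    have h3 : cj c (o2 P) ≤ cj d (normalizer (V : Set G)) := hQT₂.trans (hdT ▸ cj_mono d h1)
    rw [← cj_normalizer, ← cj_cj]
    exact cj_le_iff.1 h3
  have hz : c⁻¹ * d ∈ centralizer ({zz ε 0} : Set G) := mul_mem (inv_mem (f.D_cz hc)) (hEz hd)
  have h4 : c⁻¹ * d ∈ normalizer (V : Set G) := J.N2.mem_of_Q_le f.h f.hN hz h2
  have h5 : c⁻¹ * d ∈ M₀ := f.le_M₀ ⟨h4, hz⟩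
  have h6 := mul_mem (hEM hd) (inv_mem h5)
  have e : d * (c⁻¹ * d)⁻¹ = c := by group
  rw [e] at h6
  exact hcM h6

theorem not_le : ¬ R ≤ normalizer (zl (S : Subgroup G) P : Set G) := fun h0 =>
  f.nR ((le_inf h0 f.R_cz).trans f.le_M₀)

/-- `N_R(T) ≤ N_G(V)`. -/
theorem normT {r : G} (hr : r ∈ R) (hn : r ∈ normalizer (T : Set G)) :
    r ∈ normalizer (zl (S : Subgroup G) P : Set G) := by
  refine mem_of_jjQ f.h f.hN (f.R_cz hr) ?_
  have h1 := cj_mono r f.T_le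
  rw [cj_eq_of_mem_normalizer hn, cj_normalizer] at h1
  exact f.JT.trans h1

theorem sylR : Syl T R := ⟨f.TR, f.T2, fun Q hQ hQ2 hTQ => f.syl.2.2 Q (hQ.trans f.RC) hQ2 hTQ⟩

theorem isMinPar : IsMinPar T R where
  le := f.TR
  not_le h0 := f.not_le fun _ hr => f.normT hr (h0 hr)
  exists_max := by
    refine ⟨R ⊓ M₀, lt_of_le_of_ne inf_le_left fun h0 => f.nR (inf_eq_left.1 h0), fun K hK hKR => ?_⟩
    exact le_inf hKR.le (f.min K hK hKR)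

/-- A normal subgroup of `R` which does not supplement `T` lies in `M₀`. -/
theorem of_ne {N₀ : Subgroup G} (hN₀ : N₀ ≤ R) (hn : R ≤ normalizer (N₀ : Set G)) (hne : N₀ ⊔ T ≠ R) :
    N₀ ≤ M₀ ∧ T ⊓ N₀ ≤ o2 R := by
  constructor
  · exact le_sup_left.trans (f.min (N₀ ⊔ T) le_sup_right (lt_of_le_of_ne (sup_le hN₀ f.TR) hne))
  · have hfact : Fact (Nat.Prime 2) := ⟨Nat.prime_two⟩
    exact (f.isMinPar.sup_eq_or_inf_le f.T2 (syl_not_dvd f.sylR) hN₀ hn).resolve_left hne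

/-- A normal subgroup of `R` in `M₀`. -/
theorem of_le {N₀ : Subgroup G} (hN₀ : N₀ ≤ R) (hn : R ≤ normalizer (N₀ : Set G)) (hle : N₀ ≤ M₀) :
    T ⊓ N₀ ≤ o2 R :=
  (f.of_ne hN₀ hn fun h0 => f.nR (by rw [← h0]; exact sup_le hle f.T_M₀)).2

theorem OT : o2 R ≤ T := ChoiceSit.o2_le_syl f.sylR

/-- `O₂(R)` normalises the `R`-conjugates of `V`. -/
theorem norm_cj {r : G} (hr : r ∈ R) :
    o2 R ≤ normalizer ((cj r (zl (S : Subgroup G) P) : Subgroup G) : Set G) := by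
  rw [← cj_normalizer]
  have h1 := cj_mono r (f.OT.trans f.T_le)
  rwa [cj_eq_of_mem_normalizer (MinSimple.VModule.le_normalizer_o2 R hr)] at h1

/-- `J(O₂(P)) ≰ O₂(R)`. -/
theorem nJ : ¬ jj (o2 P) ≤ o2 R := fun h0 =>
  f.not_le fun _ hr => mem_of_jjQ f.h f.hN (f.R_cz hr) (h0.trans (f.norm_cj hr))

/-- `v ∈ V`, `[v, c] ∈ V`, `v ∉ D` implies `c ∈ M₀`. -/
theorem mem_M₀ {c v : G} (hc : c ∈ R) (hv : v ∈ zl (S : Subgroup G) P) (hvD : v ∉ D)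
    (hv' : c * v * c⁻¹ * v⁻¹ ∈ zl (S : Subgroup G) P) : c ∈ M₀ := by
  by_contra hcon
  refine hvD (f.TI (f.RC hc) hcon hv ?_)
  have h1 := mul_mem hv' hv
  rwa [inv_mul_cancel_right] at h1

/-- `R` moves every `v ∈ V ∖ D` modulo `V`. -/
theorem mem_of_fix {v : G} (hv : v ∈ zl (S : Subgroup G) P)
    (hc : ∀ r ∈ R, r * v * r⁻¹ * v⁻¹ ∈ zl (S : Subgroup G) P) : v ∈ D := by
  by_contra hvD
  exact f.nR fun r hr => f.mem_M₀ hr hv hvD (hc r hr)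

/-- `O²(R)` moves every `v ∈ V ∖ D` modulo `V`. -/
theorem mem_of_oddGen {v : G} (hv : v ∈ zl (S : Subgroup G) P)
    (hc : ∀ r ∈ oddGen R, r * v * r⁻¹ * v⁻¹ ∈ zl (S : Subgroup G) P) : v ∈ D := by
  by_contra hvD
  have h1 : oddGen R ≤ M₀ := fun r hr => f.mem_M₀ (oddGen_le R hr) hv hvD (hc r hr)
  have h2 : oddGen R ⊔ T = R := oddGen_sup f.sylR
  exact f.nR (by rw [← h2]; exact sup_le h1 f.T_M₀)

end Fr

end Cfsg.Agent.Omega.NO3S.SN.TwoP
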