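import Cfsg.Agent.Omega.NO3S.SN.J.N2
import Cfsg.Agent.ZN.ChoiceNse

/-!
# THEOREM SN, K-free part, case `J(S) ≰ O₂(P)`: (N2+)

`J₀ = J(O₂(P))`, `z` the point `z_0`.

* `ex_comm` : `u` with `[u, J₀] = ⟨x⟩`: every exact offender of `C_P(z)` centralises `x`;
* `mem_of_jjQ` **(N2+)** : `g ∈ C_G(z)`, `J₀ ≤ N_G(V^g)` imply `V^g = V`;
* `two_le` : the 2-subgroups of `C_G(z)` over `J₀` normalise `V`.
-/

set_option autoImplicit false
set_option linter.unusedSectionVars false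

namespace Cfsg.Agent.Omega.NO3S.SN.TwoP

open Subgroup Cfsg Cfsg.Agent.PLocal.ThompsonJ Cfsg.Agent.ZN Cfsg.Agent.ZN.ChoiceBase
open Cfsg.Agent.ZN.ChoiceSit Cfsg.Agent.PLocal.ElemAbSup
open Cfsg.Agent.Omega.MinPar
open Cfsg.Agent.Omega.S5.Def Cfsg.Agent.Omega.S5.Syl Cfsg.Agent.Omega.S5.Pair
open Cfsg.Agent.Omega.NSix.Base Cfsg.Agent.Omega.NSix.Basic
open Cfsg.Agent.Omega.SQ1.Bau (mem_AA_of_comm elem_comm elem_sq mem_sup_comm card_sup_comm)
open Cfsg.Agent.Omega.NSix.CaseJ.Base Cfsg.Agent.Omega.NSix.CaseJ.Exact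
open Cfsg.Agent.Omega.NSix.CaseJ.LemQ

universe u

variable {G : Type u} [Group G] [Finite G] {S : Sylow 2 G} {P : Subgroup G} {m : ℕ}
  {ε : (Fin (2 ^ m + 1) → ZMod 2) → G}

/-! ### The members of `A(O₂(P))` -/

theorem zero_ne_last (m : ℕ) : (0 : Fin (2 ^ m + 1)) ≠ Fin.last (2 ^ m) := by
  intro h0
  have h1 : (0 : ℕ) = 2 ^ m := congrArg Fin.val h0
  have h2 : 0 < 2 ^ m := by positivity
  omega

/-- The members of `A(O₂(P))` have maximal order in `G`. -/
theorem card_le_AA (h : NSix.CaseJ.Base.Hyp S P ε) {A : Subgroup G} (hA : A ∈ AA (o2 P)) {B : Subgroup G}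
    (hB : IsElementaryAbelian 2 B) : Nat.card B ≤ Nat.card A := by
  obtain ⟨A', hA'⟩ := exists_ex h (zero_ne_last m)
  rw [← mm_eq hA, (hA'.A0_le h (zero_ne_last m)).2]
  exact hA'.card B hB

/-- Elementary abelian subgroups of maximal order of `N_G(V)` act by disjoint transpositions. -/
theorem side_norm (h : NSix.CaseJ.Base.Hyp S P ε) {B : Subgroup G} (hB : IsElementaryAbelian 2 B)
    (hmax : ∀ C : Subgroup G, IsElementaryAbelian 2 C → Nat.card C ≤ Nat.card B)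
    (hBM : B ≤ normalizer (zl (S : Subgroup G) P : Set G)) : Side B ε := by
  obtain ⟨k, hk, hkS⟩ := NSix.CaseJ.Fus.conj_S h (isPGroup_of_isElementaryAbelian hB) hBM
  have hAA : cj k B ∈ AA (S : Subgroup G) :=
    ⟨isElementaryAbelian_cj k hB, hkS, fun C hC _ => by rw [card_cj]; exact hmax C hC⟩
  have hs := h.side hAA
  obtain ⟨σ, hσ⟩ := (NSix.Norm.evenSet' h.hm S h.ev h.SP h.fix0).perm k hk
  intro b hb
  obtain ⟨τ, h1, h2⟩ := hs (k * b * k⁻¹) ⟨b, hb, rfl⟩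
  have e1 : k⁻¹ * (k * b * k⁻¹) * k⁻¹⁻¹ = b := by group
  refine ⟨σ⁻¹ * τ * σ⁻¹⁻¹, ?_, fun i hi => ?_⟩
  · have h3 := hσ.inv.conj h1
    rwa [e1] at h3
  · rw [inv_inv] at hi ⊢
    have hi' : τ (σ i) ≠ σ i := by
      intro h0
      apply hi
      rw [Equiv.Perm.mul_apply, Equiv.Perm.mul_apply, h0]
      exact σ.symm_apply_apply i
    obtain ⟨h3, c, hc, hc'⟩ := h2 _ hi'
    refine ⟨?_, k⁻¹ * c * k⁻¹⁻¹, ?_, ?_⟩
    · rw [Equiv.Perm.mul_apply, Equiv.Perm.mul_apply, Equiv.Perm.mul_apply, Equiv.Perm.mul_apply]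
      have e3 : σ (σ⁻¹ (τ (σ i))) = τ (σ i) := σ.apply_symm_apply _
      rw [e3, h3]
      exact σ.symm_apply_apply i
    · rw [mem_cj] at hc
      rwa [inv_inv]
    · have h4 := hσ.inv.conj hc'
      rw [← Equiv.swap_apply_apply] at h4
      have e2 : σ⁻¹ (σ i) = i := σ.symm_apply_apply i
      rw [e2] at h4
      exact h4

/-- `O₂(P)` is a Sylow 2-subgroup of `C_G(V)`. -/
theorem sylQ (h : NSix.CaseJ.Base.Hyp S P ε) : Syl (o2 P) (centralizer (zl (S : Subgroup G) P : Set G)) := by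
  refine ⟨fun q hq => mem_centralizer_iff.2 fun v hv => (h.VcQ hq hv).symm, ?_, fun R hR hR2 hQR => ?_⟩
  · exact MinSimple.VModule.o2_isPGroup P
  · have hRM : R ≤ normalizer (zl (S : Subgroup G) P : Set G) := hR.trans (centralizer_le_normalizer _)
    obtain ⟨k, hk, hkS⟩ := NSix.CaseJ.Fus.conj_S h hR2 hRM
    have h1 : cj k R ≤ o2 P := by
      intro x hx
      refine h.cS (hkS hx) fun v hv => ?_
      have h2 : cj k R ≤ centralizer (zl (S : Subgroup G) P : Set G) := by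
        have h3 := cj_mono k hR
        rwa [cj_centralizer, cj_eq_of_mem_normalizer hk] at h3
      exact (mem_centralizer_iff.1 (h2 hx) v hv).symm
    refine (Subgroup.eq_of_le_of_card_ge hQR ?_).symm
    rw [← card_cj k R]
    exact Subgroup.card_le_of_le h1

/-- Two elements outside a subgroup of index at most two. -/
theorem two_cosets {C X : Subgroup G} (hCX : C ≤ X) (hc : Nat.card X ≤ 2 * Nat.card C) {u v : G}
    (hu : u ∈ X) (huC : u ∉ C) (hv : v ∈ X) (hvC : v ∉ C) : u⁻¹ * v ∈ C := by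
  by_contra hcon
  have hCp : 0 < Nat.card C := Nat.card_pos
  -- three disjoint cosets
  have h1 : Nat.card (C ⊕ (C ⊕ C)) ≤ Nat.card X := by
    refine Nat.card_le_card_of_injective (fun p : C ⊕ (C ⊕ C) => match p with
      | Sum.inl c => (⟨c, hCX c.2⟩ : X)
      | Sum.inr (Sum.inl c) => ⟨u * c, mul_mem hu (hCX c.2)⟩
      | Sum.inr (Sum.inr c) => ⟨v * c, mul_mem hv (hCX c.2)⟩) ?_
    rintro (⟨c, hc⟩ | ⟨c, hc⟩ | ⟨c, hc⟩) (⟨d, hd⟩ | ⟨d, hd⟩ | ⟨d, hd⟩) hcd
    · have h2 : c = d := congrArg Subtype.val hcd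
      subst h2; rfl
    · have h2 : c = u * d := congrArg Subtype.val hcd
      exact absurd (by rw [eq_mul_inv_of_mul_eq h2.symm]; exact mul_mem hc (inv_mem hd)) huC
    · have h2 : c = v * d := congrArg Subtype.val hcd
      exact absurd (by rw [eq_mul_inv_of_mul_eq h2.symm]; exact mul_mem hc (inv_mem hd)) hvC
    · have h2 : u * c = d := congrArg Subtype.val hcd
      exact absurd (by rw [eq_mul_inv_of_mul_eq h2]; exact mul_mem hd (inv_mem hc)) huC
    · have h2 : u * c = u * d := congrArg Subtype.val hcd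
      have h3 := mul_left_cancel h2
      subst h3; rfl
    · have h2 : u * c = v * d := congrArg Subtype.val hcd
      refine absurd ?_ hcon
      have h3 : u⁻¹ * v = c * d⁻¹ := by
        calc u⁻¹ * v = u⁻¹ * (v * d) * d⁻¹ := by group
          _ = c * d⁻¹ := by rw [← h2]; group
      rw [h3]; exact mul_mem hc (inv_mem hd)
    · have h2 : v * c = d := congrArg Subtype.val hcd
      exact absurd (by rw [eq_mul_inv_of_mul_eq h2]; exact mul_mem hd (inv_mem hc)) hvC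
    · have h2 : v * c = u * d := congrArg Subtype.val hcd
      refine absurd ?_ hcon
      have h3 : u⁻¹ * v = d * c⁻¹ := by
        calc u⁻¹ * v = u⁻¹ * (v * c) * c⁻¹ := by group
          _ = d * c⁻¹ := by rw [h2]; group
      rw [h3]; exact mul_mem hd (inv_mem hc)
    · have h2 : v * c = v * d := congrArg Subtype.val hcd
      have h3 := mul_left_cancel h2
      subst h3; rfl
  rw [Nat.card_sum, Nat.card_sum] at h1
  omega


/-! ### `C_G(z)` and `W = Ω₁(Z(O₂(C_G(z))))` -/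

/-- `W = Ω₁(Z(O₂(C_G(z))))`. -/
abbrev WW (ε : (Fin (2 ^ m + 1) → ZMod 2) → G) : Subgroup G :=
  zc (o2 (centralizer ({zz ε 0} : Set G)))

theorem WW_conj {g w : G} (hg : g ∈ centralizer ({zz ε 0} : Set G)) (hw : w ∈ WW ε) : g * w * g⁻¹ ∈ WW ε := by
  have h3 := MinSimple.VModule.mem_zc.1 hw
  have hn := MinSimple.VModule.le_normalizer_o2 (centralizer ({zz ε 0} : Set G)) hg
  refine MinSimple.VModule.mem_zc.2 ⟨(mem_normalizer_iff.1 hn w).1 h3.1, fun x hx => ?_, ?_⟩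
  · have h4 : g⁻¹ * x * g ∈ o2 (centralizer ({zz ε 0} : Set G)) := by
      have := (mem_normalizer_iff.1 (inv_mem hn) x).1 hx
      rwa [inv_inv] at this
    have h5 := h3.2.1 _ h4
    calc x * (g * w * g⁻¹) = g * ((g⁻¹ * x * g) * w) * g⁻¹ := by group
      _ = g * (w * (g⁻¹ * x * g)) * g⁻¹ := by rw [h5]
      _ = g * w * g⁻¹ * x := by group
  · calc (g * w * g⁻¹) ^ 2 = g * w ^ 2 * g⁻¹ := by rw [pow_two, pow_two]; group
      _ = 1 := by rw [h3.2.2]; group

theorem WW_comm {x y : G} (hx : x ∈ WW ε) (hy : y ∈ WW ε) : x * y = y * x :=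
  (MinSimple.VModule.mem_zc.1 hy).2.1 x (MinSimple.VModule.mem_zc.1 hx).1

theorem WW_sq {x : G} (hx : x ∈ WW ε) : x * x = 1 := by
  have := (MinSimple.VModule.mem_zc.1 hx).2.2
  rwa [pow_two] at this

theorem WW_elem : IsElementaryAbelian 2 (WW ε) := isElementaryAbelian_iff.2
  ⟨fun _ hx _ hy => WW_comm hx hy, fun _ hx => (MinSimple.VModule.mem_zc.1 hx).2.2⟩

theorem V_le_WW (hN : SN.Hyp S P m ε) : zl (S : Subgroup G) P ≤ WW ε := hN.V_le

theorem WW_le_Q (h : NSix.CaseJ.Base.Hyp S P ε) (hN : SN.Hyp S P m ε) : WW ε ≤ o2 P := by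
  intro x hx
  have h1 := V_le_WW hN
  have h3 := MinSimple.VModule.mem_zc.1 hx
  exact h.cS (hN.o2_le_S h3.1) fun v hv => (h3.2.1 v (MinSimple.VModule.mem_zc.1 (h1 hv)).1).symm

theorem Q_le_cz (h : NSix.CaseJ.Base.Hyp S P ε) : o2 P ≤ centralizer ({zz ε 0} : Set G) := fun _ hq =>
  mem_centralizer_singleton_iff.2 (h.VcQ hq (zz_mem h.ev 0))

/-- Elements acting as a permutation which fixes the letter `0` centralise `z`. -/
theorem cz_of_acts {g : G} {σ : Equiv.Perm (Fin (2 ^ m + 1))} (hσ : Acts ε g σ) (h0 : σ 0 = 0) :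
    g ∈ centralizer ({zz ε 0} : Set G) := by
  have h1 := zz_conj hσ 0
  rw [h0] at h1
  exact mem_centralizer_singleton_iff.2 (comm_of_conj h1)

/-- `P` normalises `J(O₂(P))`. -/
theorem jjQ_conj {g q : G} (hg : g ∈ P) (hq : q ∈ jj (o2 P)) : g * q * g⁻¹ ∈ jj (o2 P) :=
  (mem_normalizer_iff.1 ((MinSimple.VModule.le_normalizer_o2 P).trans
    (normalizer_le_of_cj (F := jj) jj_cj (o2 P)) hg) q).1 hq

/-- **The exact offenders in `C_P(z)` centralise `x`**, if `[u, J(Q)] = ⟨x⟩`. -/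
theorem ex_comm (h : NSix.CaseJ.Base.Hyp S P ε) (hN : SN.Hyp S P m ε) {u x : G} (hu : u ∈ WW ε) (hxW : x ∈ WW ε)
    (hx : x ∈ zj (o2 P)) (hc : ∀ q ∈ jj (o2 P), q * u * q⁻¹ = u ∨ q * u * q⁻¹ = x * u)
    (he : ∃ q ∈ jj (o2 P), q * u * q⁻¹ ≠ u) {i j : Fin (2 ^ m + 1)} (hi : i ≠ 0) (hj : j ≠ 0) (hij : i ≠ j)
    {A : Subgroup G} (hA : Ex P ε i j A) {c : G} (hcA : c ∈ A) : c * x * c⁻¹ = x := by
  obtain ⟨V, hV⟩ : ∃ V, V = zl (S : Subgroup G) P := ⟨_, rfl⟩
  have hVe : IsElementaryAbelian 2 V := hV ▸ V_elem h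
  have hVW : V ≤ WW ε := hV ▸ V_le_WW hN
  have hA0 := (hA.A0_le h hij).1
  have hxJ := ChoiceBase.mem_zj.1 hx
  obtain ⟨q₀, hq₀, hq₀u⟩ := he
  have hq₀x := (hc q₀ hq₀).resolve_left hq₀u
  have hx1 : x ≠ 1 := fun e => hq₀u (by rw [hq₀x, e, one_mul])
  rcases hA.act c hcA with hc1 | hc1
  · -- `c ∈ A₀`
    have h1 : c ∈ A ⊓ centralizer (zl (S : Subgroup G) P : Set G) := (hA.mem_A0 h).2 ⟨hcA, hc1⟩
    rw [hxJ.2.2 c (hA0 h1), mul_inv_cancel_right]
  have hcz : c ∈ centralizer ({zz ε 0} : Set G) := cz_of_acts hc1 (Equiv.swap_apply_of_ne_of_ne hi.symm hj.symm)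
  have hcP := hA.AP hcA
  obtain ⟨u', hu'⟩ : ∃ u', u' = c * u * c⁻¹ := ⟨_, rfl⟩
  obtain ⟨x', hx'⟩ : ∃ x', x' = c * x * c⁻¹ := ⟨_, rfl⟩
  rw [← hx']
  have hu'W : u' ∈ WW ε := hu' ▸ WW_conj hcz hu
  have hx'W : x' ∈ WW ε := hx' ▸ WW_conj hcz hxW
  have hx'1 : x' ≠ 1 := fun e => hx1 (conj_eq_one_iff.1 (hx' ▸ e))
  by_cases hcase : ∀ b ∈ A ⊓ centralizer (zl (S : Subgroup G) P : Set G), b * u * b⁻¹ = u
  · -- `A₀` centralises `u`
    have hbu' : ∀ b ∈ A ⊓ centralizer (zl (S : Subgroup G) P : Set G), b * u' * b⁻¹ = u' := by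
      intro b hb
      have e : b * c = c * b := elem_comm hA.elem b hb.1 c hcA
      calc b * u' * b⁻¹ = (b * c) * u * (b * c)⁻¹ := by rw [hu']; group
        _ = c * (b * u * b⁻¹) * c⁻¹ := by rw [e]; group
        _ = u' := by rw [hcase b hb, hu']
    set X := V ⊔ closure {u, u'} with hX
    have hXW : X ≤ WW ε := sup_le hVW (by
      rw [closure_le]
      rintro y (rfl | rfl)
      · exact hu
      · exact hu'W)
    have hXe : IsElementaryAbelian 2 X := isElementaryAbelian_mono WW_elem hXW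
    have hXc : ∀ b ∈ A ⊓ centralizer (zl (S : Subgroup G) P : Set G), ∀ y ∈ X, b * y = y * b := by
      intro b hb
      have h1 : X ≤ centralizer ({b} : Set G) := by
        refine sup_le (fun v hv => ?_) ?_
        · rw [mem_centralizer_singleton_iff]
          exact mem_centralizer_iff.1 hb.2 v (hV ▸ hv)
        · rw [closure_le]
          rintro y (rfl | rfl)
          · exact mem_centralizer_singleton_iff.2 (comm_of_conj (hcase b hb)).symm
          · exact mem_centralizer_singleton_iff.2 (comm_of_conj (hbu' b hb)).symm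
      exact fun y hy => (mem_centralizer_singleton_iff.1 (h1 hy)).symm
    have h1 := hA.transv h hij hXe (hV ▸ le_sup_left) hXc hcA
      (mem_sup_right (subset_closure (Set.mem_insert u {u'})))
    rw [← hu'] at h1
    obtain ⟨r, hr, hru⟩ : ∃ r ∈ V, u' = u * r := by
      rcases h1 with h1 | h1
      · exact ⟨1, one_mem _, by rw [mul_one]; exact h1⟩
      · exact ⟨rr ε i j, hV ▸ rr_mem h.ev i j, h1⟩
    have hq' := jjQ_conj hcP hq₀
    have e1 : (c * q₀ * c⁻¹) * u' * (c * q₀ * c⁻¹)⁻¹ = x' * u' := by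
      calc (c * q₀ * c⁻¹) * u' * (c * q₀ * c⁻¹)⁻¹ = c * (q₀ * u * q₀⁻¹) * c⁻¹ := by rw [hu']; group
        _ = x' * u' := by rw [hq₀x, hx', hu']; group
    have e2 : (c * q₀ * c⁻¹) * r = r * (c * q₀ * c⁻¹) := h.VcQ (ChoiceBase.jj_le _ hq') (hV ▸ hr)
    have e3 : (c * q₀ * c⁻¹) * u' * (c * q₀ * c⁻¹)⁻¹ = ((c * q₀ * c⁻¹) * u * (c * q₀ * c⁻¹)⁻¹) * r := by
      calc (c * q₀ * c⁻¹) * u' * (c * q₀ * c⁻¹)⁻¹ = (c * q₀ * c⁻¹) * u * r * (c * q₀ * c⁻¹)⁻¹ := by
            rw [hru]; group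
        _ = (c * q₀ * c⁻¹) * u * ((c * q₀ * c⁻¹)⁻¹ * ((c * q₀ * c⁻¹) * r)) * (c * q₀ * c⁻¹)⁻¹ := by group
        _ = _ := by rw [e2]; group
    rw [e1, hru, ← mul_assoc] at e3
    have e4 := mul_right_cancel e3
    rcases hc _ hq' with h2 | h2
    · rw [h2] at e4
      exact absurd (mul_eq_right.1 e4) hx'1
    · rw [h2] at e4
      exact mul_right_cancel e4
  · -- `b ∈ A₀` moves `u`
    push Not at hcase
    obtain ⟨b, hb, hbu⟩ := hcase
    have hbx := (hc b (hA0 hb)).resolve_left hbu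
    have hbc : b * c = c * b := elem_comm hA.elem b hb.1 c hcA
    have hbu' : b * u' * b⁻¹ = x' * u' := by
      calc b * u' * b⁻¹ = (b * c) * u * (b * c)⁻¹ := by rw [hu']; group
        _ = c * (b * u * b⁻¹) * c⁻¹ := by rw [hbc]; group
        _ = x' * u' := by rw [hbx, hx', hu']; group
    -- `E = A₀ V`
    set A0 := A ⊓ centralizer (zl (S : Subgroup G) P : Set G) with hA0d
    have hcm : ∀ a ∈ A0, ∀ v ∈ V, a * v = v * a := fun a ha v hv =>
      (mem_centralizer_iff.1 ha.2 v (hV ▸ hv)).symm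
    have hEe := sup_elem (isElementaryAbelian_mono hA.elem inf_le_left) hVe hcm
    have hEmax : ∀ B : Subgroup G, IsElementaryAbelian 2 B → Nat.card B ≤ Nat.card ↥(A0 ⊔ V : Subgroup G) := by
      intro B hB
      refine (hA.card B hB).trans ?_
      have h1 := card_sup_comm hcm
      have h2 : 2 * Nat.card ↥(A0 ⊓ V) ≤ Nat.card V := by
        refine two_mul_card_le inf_le_right fun hle => ?_
        have h3 := (hle (show zz ε i ∈ V from hV ▸ zz_mem h.ev i)).1.1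
        have h4 := (h.ev.fixes_iff h.three hc1 i).1 (elem_comm hA.elem c hcA _ h3)
        rw [Equiv.swap_apply_left] at h4
        exact hij h4.symm
      have hp : 0 < Nat.card ↥(A0 ⊓ V) := Nat.card_pos
      have h4 : Nat.card A * Nat.card ↥(A0 ⊓ V) ≤ Nat.card ↥(A0 ⊔ V : Subgroup G) * Nat.card ↥(A0 ⊓ V) := by
        rw [h1, hA.card_A0 h hij]
        calc 2 * Nat.card A0 * Nat.card ↥(A0 ⊓ V) = Nat.card A0 * (2 * Nat.card ↥(A0 ⊓ V)) := by ring
          _ ≤ Nat.card A0 * Nat.card V := Nat.mul_le_mul_left _ h2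
      exact Nat.le_of_mul_le_mul_right h4 hp
    set X := closure ({u, u'} : Set G) with hX
    have hXW : X ≤ WW ε := by
      rw [hX, closure_le]
      rintro y (rfl | rfl)
      · exact hu
      · exact hu'W
    have hXe : IsElementaryAbelian 2 X := isElementaryAbelian_mono WW_elem hXW
    have h1 := count hEe hXe hEmax
    -- `|E| ≤ 2 |C_E(X)|`
    have hQc : ∀ e ∈ A0 ⊔ V, ∃ a ∈ A0, ∃ v ∈ V, e = a * v := by
      intro e he
      obtain ⟨a, ha, v, hv, rfl⟩ := mem_sup_comm hcm he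
      exact ⟨a, ha, v, hv, rfl⟩
    have hvu : ∀ v ∈ V, ∀ y ∈ WW ε, v * y * v⁻¹ = y := fun v hv y hy => by
      rw [WW_comm (hVW hv) hy, mul_inv_cancel_right]
    have hfix : ∀ a ∈ A0, a * u * a⁻¹ = u → ∀ v ∈ V, a * v ∈ (A0 ⊔ V) ⊓ centralizer (X : Set G) := by
      intro a ha hau v hv
      refine ⟨mul_mem (mem_sup_left ha) (mem_sup_right hv), ?_⟩
      have e : a * c = c * a := elem_comm hA.elem a ha.1 c hcA
      have hau' : a * u' * a⁻¹ = u' := by
        calc a * u' * a⁻¹ = (a * c) * u * (a * c)⁻¹ := by rw [hu']; group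
          _ = c * (a * u * a⁻¹) * c⁻¹ := by rw [e]; group
          _ = u' := by rw [hau, hu']
      have h2 : X ≤ centralizer ({a * v} : Set G) := by
        rw [hX, closure_le]
        rintro y (rfl | rfl)
        · refine mem_centralizer_singleton_iff.2 (comm_of_conj ?_).symm
          calc a * v * y * (a * v)⁻¹ = a * (v * y * v⁻¹) * a⁻¹ := by group
            _ = y := by rw [hvu v hv y hu, hau]
        · refine mem_centralizer_singleton_iff.2 (comm_of_conj ?_).symm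
          calc a * v * y * (a * v)⁻¹ = a * (v * y * v⁻¹) * a⁻¹ := by group
            _ = y := by rw [hvu v hv y hu'W, hau']
      exact mem_centralizer_iff.2 fun y hy => mem_centralizer_singleton_iff.1 (h2 hy)
    have h2 : Nat.card ↥(A0 ⊔ V : Subgroup G) ≤ 2 * Nat.card ↥((A0 ⊔ V) ⊓ centralizer (X : Set G)) := by
      refine card_le_two (c := b) fun y hy hyC => ?_
      obtain ⟨a, ha, v, hv, rfl⟩ := hQc y hy
      have hau : a * u * a⁻¹ ≠ u := fun e => hyC (hfix a ha e v hv)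
      have hax := (hc a (hA0 ha)).resolve_left hau
      have e1 : b⁻¹ * (a * v) = (b⁻¹ * a) * v := by group
      rw [e1]
      refine hfix _ (mul_mem (inv_mem hb) ha) ?_ v hv
      calc b⁻¹ * a * u * (b⁻¹ * a)⁻¹ = b⁻¹ * (a * u * a⁻¹) * b := by group
        _ = b⁻¹ * (b * u * b⁻¹) * b := by rw [hax, hbx]
        _ = u := by group
    have h3 : Nat.card X ≤ 2 * Nat.card ↥(X ⊓ centralizer ((A0 ⊔ V : Subgroup G) : Set G)) := by
      have hp : 0 < Nat.card ↥((A0 ⊔ V) ⊓ centralizer (X : Set G)) := Nat.card_pos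
      have h4 : Nat.card ↥((A0 ⊔ V) ⊓ centralizer (X : Set G)) * Nat.card X ≤
          Nat.card ↥((A0 ⊔ V) ⊓ centralizer (X : Set G)) *
            (2 * Nat.card ↥(X ⊓ centralizer ((A0 ⊔ V : Subgroup G) : Set G))) := by
        calc _ = Nat.card X * Nat.card ↥((A0 ⊔ V) ⊓ centralizer (X : Set G)) := mul_comm _ _
          _ ≤ Nat.card ↥(A0 ⊔ V : Subgroup G) * Nat.card ↥(X ⊓ centralizer ((A0 ⊔ V : Subgroup G) : Set G)) := h1
          _ ≤ 2 * Nat.card ↥((A0 ⊔ V) ⊓ centralizer (X : Set G)) *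
              Nat.card ↥(X ⊓ centralizer ((A0 ⊔ V : Subgroup G) : Set G)) := Nat.mul_le_mul_right _ h2
          _ = _ := by ring
      exact Nat.le_of_mul_le_mul_left h4 hp
    have hnot : ∀ y, b * y * b⁻¹ ≠ y → y ∉ X ⊓ centralizer ((A0 ⊔ V : Subgroup G) : Set G) := by
      intro y hy hyC
      apply hy
      rw [mem_centralizer_iff.1 hyC.2 b (mem_sup_left hb), mul_inv_cancel_right]
    have h5 := two_cosets inf_le_left h3 (u := u) (v := u') (subset_closure (Set.mem_insert u {u'}))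
      (hnot u hbu) (subset_closure (Set.mem_insert_of_mem u rfl))
      (hnot u' (by rw [hbu']; exact fun e => hx'1 (mul_eq_right.1 e)))
    have h6 := mem_centralizer_iff.1 h5.2 b (mem_sup_left hb)
    have h7 : b * (u⁻¹ * u') * b⁻¹ = u⁻¹ * u' := by rw [h6, mul_inv_cancel_right]
    have h8 : b * (u⁻¹ * u') * b⁻¹ = (b * u * b⁻¹)⁻¹ * (b * u' * b⁻¹) := by group
    rw [h8, hbx, hbu'] at h7
    have h9 : u * x' = x' * u := WW_comm hu hx'W
    have h10 : x⁻¹ * x' = 1 := by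
      have e1 : (x * u)⁻¹ * (x' * u') = u⁻¹ * (x⁻¹ * x') * u' := by group
      rw [e1] at h7
      have e2 : u⁻¹ * (x⁻¹ * x') = u⁻¹ := mul_right_cancel h7
      exact mul_eq_left.1 e2
    exact (inv_mul_eq_one.1 h10).symm


/-- Conjugates of `V` centralised by `J(O₂(P))`. -/
theorem mem_of_centralizer (h : NSix.CaseJ.Base.Hyp S P ε) (h3 : 3 ≤ m) {g : G}
    (hc : jj (o2 P) ≤ centralizer ((cj g (zl (S : Subgroup G) P) : Subgroup G) : Set G)) :
    g ∈ normalizer (zl (S : Subgroup G) P : Set G) := by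
  obtain ⟨V, hV⟩ : ∃ V, V = zl (S : Subgroup G) P := ⟨_, rfl⟩
  rw [← hV] at hc ⊢
  have hsyl : Syl (o2 P) (centralizer (V : Set G)) := hV ▸ sylQ h
  have hsyl' : Syl (cj g (o2 P)) (centralizer ((cj g V : Subgroup G) : Set G)) := by
    rw [← cj_centralizer]
    refine ⟨cj_mono g hsyl.1, isPGroup_cj g hsyl.2.1, fun R hR hR2 hQR => ?_⟩
    have h1 := hsyl.2.2 (cj g⁻¹ R) (by
      have := cj_mono g⁻¹ hR
      rwa [cj_inv_cj] at this) (isPGroup_cj g⁻¹ hR2) (by
      have := cj_mono g⁻¹ hQR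
      rwa [cj_inv_cj] at this)
    rw [← h1, cj_cj_inv]
  have hJ2 : IsPGroup 2 (jj (o2 P)) := hsyl.2.1.to_le (ChoiceBase.jj_le _)
  obtain ⟨R, hR, hJR⟩ := exists_syl hJ2 hc
  obtain ⟨c, hcc, hcR⟩ := syl_conj hsyl' hR
  have h1 : jj (o2 P) ≤ cj (c * g) (o2 P) := by
    rw [← cj_cj, hcR]
    exact hJR
  have h2 : jj (o2 P) ≤ cj (c * g) (jj (o2 P)) := by
    rw [← jj_cj]
    conv_lhs => rw [jj_eq]
    refine sSup_le fun A hA => ChoiceBase.le_jj ⟨hA.1, (ChoiceBase.le_jj hA).trans h1, fun B hB _ => ?_⟩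
    exact card_le_AA h hA hB
  have h4 : cj (c * g) (jj (o2 P)) = jj (o2 P) :=
    (Subgroup.eq_of_le_of_card_ge h2 (card_cj _ _).le).symm
  have h5 : c * g ∈ normalizer (V : Set G) := hV ▸ J.N1.jjQ_le h h3 (mem_normalizer_iff_cj.2 h4)
  have h6 : cj c (cj g V) = cj g V :=
    cj_eq_of_mem_normalizer (centralizer_le_normalizer _ hcc)
  rw [cj_cj, cj_eq_of_mem_normalizer h5] at h6
  exact mem_normalizer_iff_cj.2 h6.symm

/-- **(N2+)** a conjugate of `V` under `C_G(z)` which is normalised by `J(O₂(P))` is `V`. -/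
theorem mem_of_jjQ (h : NSix.CaseJ.Base.Hyp S P ε) (hN : SN.Hyp S P m ε) {g : G}
    (hg : g ∈ centralizer ({zz ε 0} : Set G))
    (hJ : jj (o2 P) ≤ normalizer ((cj g (zl (S : Subgroup G) P) : Subgroup G) : Set G)) :
    g ∈ normalizer (zl (S : Subgroup G) P : Set G) := by
  classical
  have hM := NSix.Norm.evenSet' h.hm S h.ev h.SP h.fix0
  have h3 := h.three
  have hm3 : 3 ≤ m := hN.m3
  have hn : ∀ q ∈ jj (o2 P), g⁻¹ * q * g ∈ normalizer (zl (S : Subgroup G) P : Set G) := by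
    intro q hq
    refine mem_normalizer_of_cj_le ?_
    rintro _ ⟨v, hv, rfl⟩
    change g⁻¹ * q * g * v * (g⁻¹ * q * g)⁻¹ ∈ _
    have h3 : g * v * g⁻¹ ∈ cj g (zl (S : Subgroup G) P) := ⟨v, hv, rfl⟩
    have h4 := (mem_normalizer_iff.1 (hJ hq) _).1 h3
    rw [mem_cj] at h4
    have e : g⁻¹ * (q * (g * v * g⁻¹) * q⁻¹) * g = g⁻¹ * q * g * v * (g⁻¹ * q * g)⁻¹ := by group
    rwa [e] at h4
  let c : jj (o2 P) →* normalizer (zl (S : Subgroup G) P : Set G) :=
    { toFun := fun q => ⟨g⁻¹ * q * g, hn q q.2⟩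
      map_one' := Subtype.ext (by change g⁻¹ * 1 * g = 1; group)
      map_mul' := fun a b => Subtype.ext (by
        change g⁻¹ * (a * b) * g = g⁻¹ * a * g * (g⁻¹ * b * g); group) }
  let f : jj (o2 P) →* Equiv.Perm (Fin (2 ^ m + 1)) := (hM.hom h3).comp c
  have hacts : ∀ q : jj (o2 P), Acts ε (g⁻¹ * (q : G) * g) (f q) := fun q => hM.acts_hom h3 (c q)
  have hfeq : ∀ (q : jj (o2 P)) (σ : Equiv.Perm (Fin (2 ^ m + 1))), Acts ε (g⁻¹ * (q : G) * g) σ → f q = σ :=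
    fun q σ hσ => h.ev.acts_unique h3 (hacts q) hσ
  have hact : ∀ (q : jj (o2 P)) x, (q : G) * (g * ε x * g⁻¹) * (q : G)⁻¹ = g * ε (x ∘ (f q).symm) * g⁻¹ := by
    intro q x
    have h3 := hacts q x
    rw [← h3]; group
  have hJ2 : IsPGroup 2 (jj (o2 P)) := (sylQ h).2.1.to_le (ChoiceBase.jj_le _)
  by_cases hf : ∀ q, f q = 1
  · -- `J(Q)` centralises `V^g`
    refine mem_of_centralizer h hm3 fun q hq => mem_centralizer_iff.2 ?_
    rintro _ ⟨v, hv, rfl⟩
    obtain ⟨x, rfl⟩ := h.ev.surj v hv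
    have h4 := hact ⟨q, hq⟩ x
    rw [hf] at h4
    exact (mul_inv_eq_iff_eq_mul.1 h4).symm
  exfalso
  push Not at hf
  -- a transposition
  have htr : ∀ A ∈ AA (o2 P), ∀ a : jj (o2 P), (a : G) ∈ A → ∀ i, f a i ≠ i → f a (f a i) = i ∧
      ∃ b : jj (o2 P), f b = Equiv.swap i (f a i) := by
    intro A hA a ha i hi
    have hAn : cj g⁻¹ A ≤ normalizer (zl (S : Subgroup G) P : Set G) := by
      rintro _ ⟨b, hb, rfl⟩
      have := hn b (ChoiceBase.le_jj hA hb)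
      change g⁻¹ * b * g⁻¹⁻¹ ∈ _
      rwa [inv_inv]
    have hs := side_norm h (isElementaryAbelian_cj g⁻¹ hA.1) (fun C hC => by
      rw [card_cj]; exact card_le_AA h hA hC) hAn
    have e1 : g⁻¹ * (a : G) * g⁻¹⁻¹ = g⁻¹ * (a : G) * g := by rw [inv_inv]
    obtain ⟨τ, h4, h5⟩ := hs (g⁻¹ * (a : G) * g⁻¹⁻¹) ⟨a, ha, rfl⟩
    rw [e1] at h4
    have h6 := hfeq a τ h4
    subst h6
    obtain ⟨h7, b, hb, h8⟩ := h5 i hi
    refine ⟨h7, ?_⟩
    rw [mem_cj, inv_inv] at hb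
    refine ⟨⟨g * b * g⁻¹, ChoiceBase.le_jj hA hb⟩, hfeq _ _ ?_⟩
    have e2 : g⁻¹ * (g * b * g⁻¹) * g = b := by group
    change Acts ε (g⁻¹ * (g * b * g⁻¹) * g) _
    rwa [e2]
  -- two transpositions at the same letter
  have hsame : ∀ i j k, i ≠ j → i ≠ k → (∃ b, f b = Equiv.swap i j) → (∃ b, f b = Equiv.swap i k) → j = k := by
    rintro i j k hij hik ⟨a, ha⟩ ⟨b, hb⟩
    by_contra hjk
    have h4 := Equiv.Perm.isThreeCycle_swap_mul_swap_same hij hik hjk
    rw [← ha, ← hb, ← map_mul] at h4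
    have h5 : IsPGroup 2 f.range := hJ2.of_surjective f.rangeRestrict f.rangeRestrict_surjective
    exact not_threeCycle h5 (w := f (a * b)) ⟨a * b, rfl⟩ h4
  obtain ⟨i, j, hij, hb⟩ : ∃ i j, i ≠ j ∧ ∃ b, f b = Equiv.swap i j := by
    by_contra hcon
    push Not at hcon
    obtain ⟨q, hq⟩ := hf
    apply hq
    have h4 : (⊤ : Subgroup (jj (o2 P))) ≤ f.ker := by
      have h5 : jj (o2 P) ≤ f.ker.map (jj (o2 P)).subtype := by
        conv_lhs => rw [jj_eq]
        refine sSup_le fun A hA a ha => ⟨⟨a, ChoiceBase.le_jj hA ha⟩, ?_, rfl⟩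
        change f _ = 1
        ext i
        by_contra hi
        have hi' : f ⟨a, ChoiceBase.le_jj hA ha⟩ i ≠ i := fun e => hi (by rw [e]; rfl)
        obtain ⟨b, hb⟩ := (htr A hA ⟨a, ChoiceBase.le_jj hA ha⟩ ha i hi').2
        exact hcon i _ hi'.symm b hb
      intro x _
      obtain ⟨y, hy, hxy⟩ := h5 x.2
      have : y = x := Subtype.ext hxy
      rwa [this] at hy
    exact h4 (mem_top q)
  -- the orbit of `i` is `{i, j}`
  have horb : ∀ q : jj (o2 P), (f q i = i ∨ f q i = j) ∧ (f q j = i ∨ f q j = j) := by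
    let K : Subgroup (jj (o2 P)) :=
      { carrier := {q | (f q i = i ∨ f q i = j) ∧ (f q j = i ∨ f q j = j)}
        one_mem' := by rw [Set.mem_ofPred_eq, map_one]; exact ⟨Or.inl rfl, Or.inr rfl⟩
        mul_mem' := by
          intro a b ha hb
          rw [Set.mem_ofPred_eq, map_mul]
          constructor
          · rcases hb.1 with h4 | h4
            · rw [Equiv.Perm.mul_apply, h4]; exact ha.1
            · rw [Equiv.Perm.mul_apply, h4]; exact ha.2
          · rcases hb.2 with h4 | h4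
            · rw [Equiv.Perm.mul_apply, h4]; exact ha.1
            · rw [Equiv.Perm.mul_apply, h4]; exact ha.2
        inv_mem' := by
          intro a ha
          rw [Set.mem_ofPred_eq, map_inv]
          have e : ∀ x y, (f a) x = y → (f a)⁻¹ y = x := fun x y hxy => by rw [← hxy]; exact (f a).symm_apply_apply x
          rcases ha.1 with h4 | h4 <;> rcases ha.2 with h5 | h5
          · exact absurd ((f a).injective (h4.trans h5.symm)) hij
          · exact ⟨Or.inl (e _ _ h4), Or.inr (e _ _ h5)⟩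
          · exact ⟨Or.inr (e _ _ h5), Or.inl (e _ _ h4)⟩
          · exact absurd ((f a).injective (h4.trans h5.symm)) hij }
    have h5 : jj (o2 P) ≤ K.map (jj (o2 P)).subtype := by
      conv_lhs => rw [jj_eq]
      refine sSup_le fun A hA a ha => ⟨⟨a, ChoiceBase.le_jj hA ha⟩, ?_, rfl⟩
      constructor
      · by_cases h4 : f ⟨a, ChoiceBase.le_jj hA ha⟩ i = i
        · exact Or.inl h4
        · exact Or.inr (hsame i _ _ (Ne.symm h4) hij (htr A hA ⟨a, ChoiceBase.le_jj hA ha⟩ ha i h4).2 hb)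
      · by_cases h4 : f ⟨a, ChoiceBase.le_jj hA ha⟩ j = j
        · exact Or.inr h4
        · refine Or.inl (hsame j _ _ (Ne.symm h4) hij.symm (htr A hA ⟨a, ChoiceBase.le_jj hA ha⟩ ha j h4).2 ?_)
          obtain ⟨b, hb⟩ := hb
          exact ⟨b, by rw [hb, Equiv.swap_comm]⟩
    intro q
    obtain ⟨y, hy, hxy⟩ := h5 q.2
    have : y = q := Subtype.ext hxy
    rw [this] at hy
    exact hy
  obtain ⟨b, hb⟩ := hb
  have hVW := V_le_WW hN
  -- `u`, `x`
  obtain ⟨u, hu⟩ : ∃ u, u = g * zz ε i * g⁻¹ := ⟨_, rfl⟩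
  obtain ⟨x, hx⟩ : ∃ x, x = g * rr ε i j * g⁻¹ := ⟨_, rfl⟩
  have huW : u ∈ WW ε := hu ▸ WW_conj hg (hVW (zz_mem h.ev i))
  have hxW : x ∈ WW ε := hx ▸ WW_conj hg (hVW (rr_mem h.ev i j))
  have hxu : g * zz ε j * g⁻¹ = x * u := by
    have e : rr ε i j * zz ε i = zz ε j := by
      change zz ε i * zz ε j * zz ε i = zz ε j
      rw [zz_comm h.ev i j, mul_assoc, zz_sq h.ev, mul_one]
    rw [hx, hu, ← e]; group
  have hzc : ∀ (q : jj (o2 P)) k, (q : G) * (g * zz ε k * g⁻¹) * (q : G)⁻¹ = g * zz ε (f q k) * g⁻¹ := by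
    intro q k
    have h4 := zz_conj (hacts q) k
    calc (q : G) * (g * zz ε k * g⁻¹) * (q : G)⁻¹ = g * (g⁻¹ * q * g * zz ε k * (g⁻¹ * q * g)⁻¹) * g⁻¹ := by group
      _ = _ := by rw [h4]
  have hc : ∀ q ∈ jj (o2 P), q * u * q⁻¹ = u ∨ q * u * q⁻¹ = x * u := by
    intro q hq
    have h4 := hzc ⟨q, hq⟩ i
    rcases (horb ⟨q, hq⟩).1 with h5 | h5
    · left; rw [h5] at h4; rw [hu]; exact h4
    · right; rw [h5, hxu] at h4; rw [hu]; rw [hu] at h4; exact h4
  have he : ∃ q ∈ jj (o2 P), q * u * q⁻¹ ≠ u := by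
    refine ⟨b, b.2, fun h0 => ?_⟩
    have h4 := hzc b i
    rw [hb, Equiv.swap_apply_left, ← hu, h0, hu] at h4
    exact hij (h.ev.single_inj h3 (mul_left_cancel (mul_right_cancel h4)))
  have hxc : ∀ q ∈ jj (o2 P), q * x = x * q := by
    intro q hq
    have h4 : x = (g * zz ε i * g⁻¹) * (g * zz ε j * g⁻¹) := by
      rw [hx]; change g * (zz ε i * zz ε j) * g⁻¹ = _; group
    have h5 : x = (g * zz ε j * g⁻¹) * (g * zz ε i * g⁻¹) := by
      rw [hx, rr_symm h.ev]; change g * (zz ε j * zz ε i) * g⁻¹ = _; group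
    refine comm_of_conj ?_
    have h6 : q * x * q⁻¹ = (q * (g * zz ε i * g⁻¹) * q⁻¹) * (q * (g * zz ε j * g⁻¹) * q⁻¹) := by
      conv_lhs => rw [h4]
      group
    have h7 := hzc ⟨q, hq⟩ i
    have h8 := hzc ⟨q, hq⟩ j
    rw [h6, h7, h8]
    have h9 : f ⟨q, hq⟩ i ≠ f ⟨q, hq⟩ j := fun e => hij ((f ⟨q, hq⟩).injective e)
    rcases (horb ⟨q, hq⟩).1 with h10 | h10 <;> rcases (horb ⟨q, hq⟩).2 with h11 | h11
    · exact absurd (h10.trans h11.symm) h9
    · rw [h10, h11]; exact h4.symm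
    · rw [h10, h11]; exact h5.symm
    · exact absurd (h10.trans h11.symm) h9
  have hx2 : x * x = 1 := WW_sq hxW
  have hxQ : x ∈ o2 P := WW_le_Q h hN hxW
  have hxJ : x ∈ zj (o2 P) :=
    ChoiceBase.mem_zj.2 ⟨mem_jj_of_comm hxQ (by rw [pow_two]; exact hx2) hxc, by rw [pow_two]; exact hx2, hxc⟩
  rcases alt h hxJ with h4 | h4
  · -- `x ∈ V`
    obtain ⟨y, hy⟩ := h.ev.surj x h4
    have h5 : ∀ a b, a ≠ 0 → b ≠ 0 → y a = y b := by
      intro a b ha hb
      by_cases hab : a = b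
      · rw [hab]
      obtain ⟨A, hA⟩ := exists_ex h hab
      obtain ⟨c, hcA, hc1⟩ := hA.ex
      have h6 := ex_comm h hN huW hxW hxJ hc he ha hb hab hA hcA
      rw [← hy] at h6
      exact (swap_comm_iff h.ev h3 hab hc1 y).1 (comm_of_conj h6)
    have h01 : ∀ a b : ZMod 2, a = b ∨ a = b + 1 := by decide
    -- `x ∈ {1, z}`
    have h6 : x = 1 ∨ x = zz ε 0 := by
      have hl := zero_ne_last m
      have h7 : ∀ a, a ≠ 0 → y a = y (Fin.last (2 ^ m)) := fun a ha => h5 a _ ha hl.symm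
      rcases h01 (y 0) (y (Fin.last (2 ^ m))) with h8 | h8
      · left
        rw [← hy, h.ev.ker]
        have h9 : ∀ a, y a = y 0 := fun a => by
          by_cases ha : a = 0
          · rw [ha]
          · rw [h7 a ha, h8]
        rcases (by decide : ∀ t : ZMod 2, t = 0 ∨ t = 1) (y 0) with h10 | h10
        · left; funext a; rw [h9, h10]; rfl
        · right; funext a; rw [h9, h10]; rfl
      · right
        rw [← hy]
        change ε y = ε (Pi.single 0 1)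
        rw [h.ev.eq_iff]
        have h9 : ∀ a, y a = (Pi.single 0 1 : Fin (2 ^ m + 1) → ZMod 2) a + y (Fin.last (2 ^ m)) := fun a => by
          by_cases ha : a = 0
          · rw [ha, Pi.single_eq_same, h8, add_comm]
          · rw [h7 a ha, Pi.single_eq_of_ne ha, zero_add]
        rcases (by decide : ∀ t : ZMod 2, t = 0 ∨ t = 1) (y (Fin.last (2 ^ m))) with h10 | h10
        · left; funext a; rw [h9, h10, add_zero]
        · right; funext a; rw [h9, h10]; rfl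
    rcases h6 with h6 | h6
    · rw [hx] at h6
      exact rr_ne_one h.ev h3 hij (conj_eq_one_iff.1 h6)
    · exact J.N1.zz_ne h hm3 i j g (by rw [← hx, h6])
  · -- `x^Q = V x`
    obtain ⟨q, hq, hqx⟩ := h4 (zz ε (Fin.last (2 ^ m))) (zz_mem h.ev _)
    have hqz := Q_le_cz h hq
    have hqP := h.QP hq
    set u' := q * u * q⁻¹ with hu'
    have hc' : ∀ r ∈ jj (o2 P), r * u' * r⁻¹ = u' ∨ r * u' * r⁻¹ = (q * x * q⁻¹) * u' := by
      intro r hr
      have hr' : q⁻¹ * r * q⁻¹⁻¹ ∈ jj (o2 P) := jjQ_conj (inv_mem hqP) hr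
      have e : r * u' * r⁻¹ = q * ((q⁻¹ * r * q⁻¹⁻¹) * u * (q⁻¹ * r * q⁻¹⁻¹)⁻¹) * q⁻¹ := by
        rw [hu']; group
      rcases hc _ hr' with h5 | h5
      · left; rw [e, h5]
      · right; rw [e, h5, hu']; group
    have he' : ∃ r ∈ jj (o2 P), r * u' * r⁻¹ ≠ u' := by
      obtain ⟨r, hr, hru⟩ := he
      refine ⟨q * r * q⁻¹, jjQ_conj hqP hr, fun h5 => hru ?_⟩
      have e : (q * r * q⁻¹) * u' * (q * r * q⁻¹)⁻¹ = q * (r * u * r⁻¹) * q⁻¹ := by rw [hu']; group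
      rw [e, hu'] at h5
      exact mul_left_cancel (mul_right_cancel h5)
    have hxJ' : q * x * q⁻¹ ∈ zj (o2 P) := zjQ_norm h hqP hxJ
    have hmem : ∃ k : Fin (2 ^ m + 1), k ∉ ({0, Fin.last (2 ^ m)} : Finset (Fin (2 ^ m + 1))) :=
      exists_not_mem _ (by
        have h5 : ({0, Fin.last (2 ^ m)} : Finset (Fin (2 ^ m + 1))).card ≤ 2 := Finset.card_le_two
        have := h.five
        omega)
    obtain ⟨k, hk⟩ := hmem
    simp only [Finset.mem_insert, Finset.mem_singleton, not_or] at hk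
    obtain ⟨A, hA⟩ := exists_ex h hk.2
    obtain ⟨c, hcA, hc1⟩ := hA.ex
    have h5 := ex_comm h hN huW hxW hxJ hc he hk.1 (zero_ne_last m).symm hk.2 hA hcA
    have h6 := ex_comm h hN (WW_conj hqz huW) (WW_conj hqz hxW) hxJ' hc' he' hk.1 (zero_ne_last m).symm hk.2
      hA hcA
    rw [hqx] at h6
    have h7 : c * (zz ε (Fin.last (2 ^ m)) * x) * c⁻¹ =
        (c * zz ε (Fin.last (2 ^ m)) * c⁻¹) * (c * x * c⁻¹) := by group
    rw [h7, h5] at h6
    have h8 := mul_right_cancel h6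
    have h9 := (h.ev.fixes_iff h3 hc1 (Fin.last (2 ^ m))).1 (comm_of_conj h8)
    rw [Equiv.swap_apply_right] at h9
    exact hk.2 h9

/-- The 2-subgroups of `C_G(z)` over `J(O₂(P))` normalise `V`. -/
theorem two_le (h : NSix.CaseJ.Base.Hyp S P ε) (hN : SN.Hyp S P m ε) {T : Subgroup G} (hT : IsPGroup 2 T)
    (hTz : T ≤ centralizer ({zz ε 0} : Set G)) (hJ : jj (o2 P) ≤ T) :
    T ≤ normalizer (zl (S : Subgroup G) P : Set G) := by
  set L := normalizer (zl (S : Subgroup G) P : Set G) with hL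
  have hJL : jj (o2 P) ≤ L := (ChoiceBase.jj_le _).trans ((sylQ h).1.trans (centralizer_le_normalizer _))
  have h1 := ChoiceNse.eq_of_normalizer_inf_le (T := T ⊓ L) (P := T) hT inf_le_left (by
    rintro t ⟨ht, htT⟩
    refine ⟨htT, mem_of_jjQ h hN (hTz htT) ?_⟩
    have h2 : cj t (T ⊓ L) = T ⊓ L := cj_eq_of_mem_normalizer ht
    have h3 : jj (o2 P) ≤ cj t (T ⊓ L) := by rw [h2]; exact le_inf hJ hJL
    refine h3.trans ((cj_mono t inf_le_right).trans ?_)
    rw [hL, cj_normalizer])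
  rw [← h1]
  exact inf_le_right

end Cfsg.Agent.Omega.NO3S.SN.TwoP
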