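import Cfsg.Agent.Omega.NO3S.SN.TwoP.FiveOut
import Cfsg.Agent.Omega.NO3S.SN.TwoP.NoOver
import Cfsg.Agent.Omega.NO3S.SN2.StepAA

/-!
# THEOREM TWO PAIRS (helper586 #20800) without `d ≥ 2`: LEMMA Z, `C_V(O₂(R)) = D`, the modules `E_k`

* `OutS` : the FF step (helper421);
* `Fr.zed` : `h ∈ V ∖ D`, `C_{O₂(R)}(V)` centralises `⟨h^R⟩D`: contradiction;
* `Fr.mem_of_O` : `C_V(O₂(R)) ≤ D`;
* `Fr.three` : for `I` normal in `R`, `D ≤ I`, `[I, O₂(R)] = 1`, some `[z_i, r] ∉ I`;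
* `Fr.mem_O'`, `Fr.mv`.
-/

set_option autoImplicit false
set_option linter.unusedSectionVars false

namespace Cfsg.Agent.Omega.NO3S.SN.TwoP

open Subgroup Cfsg Cfsg.Agent.PLocal.ThompsonJ Cfsg.Agent.ZN Cfsg.Agent.ZN.ChoiceBase
open Cfsg.Agent.ZN.ChoiceSit Cfsg.Agent.PLocal.ElemAbSup
open Cfsg.Agent.Omega.MinPar
open Cfsg.Agent.Omega.S5.Def Cfsg.Agent.Omega.S5.Syl Cfsg.Agent.Omega.S5.Pair
open Cfsg.Agent.Omega.NSix.Base Cfsg.Agent.Omega.NSix.Basic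
open Cfsg.Agent.Omega.NSix.CaseJ.Base Cfsg.Agent.Omega.NSix.CaseJ.Exact
open Cfsg.Agent.Omega.NSix.CaseJ.LemQ
open Cfsg.Agent.Omega.NO3S.SN2.FF (Out Stp)
open Cfsg.Agent.Omega.NO3S.SN2.StepAB (Mh Mh_le mem_Mh D_le_Mh)
open Cfsg.Agent.Omega.NO3S.SN2.StepAA (stpAA)

universe u

/-- **The FF step**. -/
def OutS (G : Type u) [Group G] : Prop :=
  ∀ (V Q T R M0 D E M : Subgroup G) (h : G) (Rel : Set (Subgroup G)), Stp V Q T R M0 D E M h Rel →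
    ∃ (F : Type) (_ : Field F) (_ : Finite F), Nonempty (Out F V Q T R M0 D E M h Rel)

variable {G : Type u} [Group G] [Finite G] {S : Sylow 2 G} {P : Subgroup G} {m : ℕ}
  {ε : (Fin (2 ^ m + 1) → ZMod 2) → G}

theorem Mh_eq {R D : Subgroup G} {h : G} : Mh R h D = Mod D R h :=
  le_antisymm (Mh_le (D_le_Mod _ _ _) fun _ hx => conj_mem_Mod hx) (Mod_le D_le_Mh fun _ hr => mem_Mh hr)

namespace Fr

variable {M₀ D T R : Subgroup G} (f : Fr S P ε M₀ D T R)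
include f

/-- **LEMMA Z** -/
theorem zed (hS : OutS G)
    (hV2 : ∀ g ∈ normalizer (zl (S : Subgroup G) P : Set G), g ∈ centralizer (D : Set G) →
      ∀ v ∈ zl (S : Subgroup G) P, g * v * g⁻¹ * v⁻¹ ∈ D) {y₀ : G} (hyV : y₀ ∈ zl (S : Subgroup G) P)
    (hyD : y₀ ∉ D) {E : Subgroup G} (hE : E < D) (hO : ∀ t ∈ o2 R, t * y₀ * t⁻¹ * y₀⁻¹ ∈ E)
    (hc : ∀ y ∈ Mod D R y₀, ∀ q ∈ o2 P ⊓ o2 R, q * y = y * q) : False := by
  have hAA : ∀ B ∈ AA (o2 P), B ≤ T := fun B hB => hB.2.1.trans f.QT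
  have hst := stpAA f hyV hyD (fun t ht => hV2 t (f.T_le ht) (f.syl.1 ht) _ hyV) hE.le hO
    (fun B hB b hb hbO y hy => (hc y (by rwa [Mh_eq] at hy) b ⟨hB.2.1 hb, hbO⟩)) (fun h0 => absurd h0 hE.not_ge)
  obtain ⟨F, _, _, ⟨o⟩⟩ := hS _ _ _ _ _ _ _ _ _ _ hst
  rw [Mh_eq] at o
  obtain ⟨e, he, q, hq, hqe⟩ := f.out_move o hyV hyD (SN2.StepAA.ex f) hAA hV2
  exact hqe (hc e he q hq)

theorem OR : o2 R ≤ R := f.OT.trans f.TR

theorem z_ne : zz ε 0 ≠ 1 := zz_ne_one f.h.ev f.h.three 0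

/-- `C_V(O₂(R)) ≤ D`. -/
theorem mem_of_O (hS : OutS G)
    (hV2 : ∀ g ∈ normalizer (zl (S : Subgroup G) P : Set G), g ∈ centralizer (D : Set G) →
      ∀ v ∈ zl (S : Subgroup G) P, g * v * g⁻¹ * v⁻¹ ∈ D) {v : G} (hv : v ∈ zl (S : Subgroup G) P)
    (hvO : ∀ b ∈ o2 R, b * v = v * b) : v ∈ D := by
  by_contra hvD
  refine f.zed hS hV2 hv hvD (E := ⊥) (lt_of_le_of_ne bot_le fun h0 => ?_) (fun t ht => ?_) fun y hy q hq => ?_
  · have h1 := f.z_mem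
    rw [← h0] at h1
    exact f.z_ne (mem_bot.1 h1)
  · rw [hvO t ht, mul_inv_cancel_right, mul_inv_cancel]
    exact one_mem _
  · have h1 : Mod D R v ≤ centralizer (o2 R : Set G) := by
      refine Mod_le (fun d hd => mem_centralizer_iff.2 fun b hb => ?_) fun r hr => mem_centralizer_iff.2 fun b hb => ?_
      · exact comm_of_conj (f.conj_D (f.OR hb) hd)
      · have hb' : r⁻¹ * b * r⁻¹⁻¹ ∈ o2 R :=
          (mem_normalizer_iff.1 (MinSimple.VModule.le_normalizer_o2 R (inv_mem hr)) b).1 hb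
        have h2 := hvO _ hb'
        calc b * (r * v * r⁻¹) = r * ((r⁻¹ * b * r⁻¹⁻¹) * v) * r⁻¹ := by group
          _ = r * (v * (r⁻¹ * b * r⁻¹⁻¹)) * r⁻¹ := by rw [h2]
          _ = r * v * r⁻¹ * b := by group
    exact mem_centralizer_iff.1 (h1 hy) q hq.2

omit f in
/-- `z` is not a pair. -/
theorem _root_.Cfsg.Agent.Omega.NO3S.SN.TwoP.z_ne_rr (h : NSix.CaseJ.Base.Hyp S P ε) (h3 : 3 ≤ m)
    {i i' : Fin (2 ^ m + 1)} (hi : i ≠ 0) (hi' : i' ≠ 0) : zz ε 0 ≠ rr ε i i' := by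
  intro h0
  have h1 : ε (Pi.single 0 1 + (Pi.single i 1 + Pi.single i' 1)) = 1 := by
    rw [h.ev.add, ← rr_eq h.ev]
    change zz ε 0 * rr ε i i' = 1
    rw [← h0, zz_sq h.ev]
  refine ne_of_six h h3 (s := {0, i, i'}) (a := 0) ((Finset.card_le_three).trans (by norm_num)) (fun j hj => ?_)
    ?_ h1
  · simp only [Finset.mem_insert, Finset.mem_singleton, not_or] at hj
    simp only [Pi.add_apply]
    rw [Pi.single_eq_of_ne hj.1, Pi.single_eq_of_ne hj.2.1, Pi.single_eq_of_ne hj.2.2]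
    rfl
  · simp only [Pi.add_apply]
    rw [Pi.single_eq_same, Pi.single_eq_of_ne hi.symm, Pi.single_eq_of_ne hi'.symm]
    rfl

/-- the letters of a pair in `D` whose `z_i` is not in `D` are not `0` -/
theorem nz {j j' : Fin (2 ^ m + 1)} (h1 : rr ε j j' ∈ D) (h2 : zz ε j ∉ D) : j ≠ 0 ∧ j' ≠ 0 := by
  refine ⟨fun h4 => h2 (h4 ▸ f.z_mem), fun h4 => h2 ?_⟩
  rw [h4] at h1
  have h5 := D.mul_mem h1 f.z_mem
  have h6 : rr ε j 0 * zz ε 0 = zz ε j := by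
    change zz ε j * zz ε 0 * zz ε 0 = zz ε j
    rw [mul_assoc, zz_sq f.h.ev, mul_one]
  rwa [h6] at h5

/-- **(3)** -/
theorem three (hS : OutS G)
    (hV2 : ∀ g ∈ normalizer (zl (S : Subgroup G) P : Set G), g ∈ centralizer (D : Set G) →
      ∀ v ∈ zl (S : Subgroup G) P, g * v * g⁻¹ * v⁻¹ ∈ D) {i i' : Fin (2 ^ m + 1)} (hii : i ≠ i')
    (hx : rr ε i i' ∈ D) (hi : zz ε i ∉ D) {I : Subgroup G} (hIO : ∀ e ∈ I, ∀ b ∈ o2 R, b * e = e * b) :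
    ∃ r ∈ R, r * zz ε i * r⁻¹ * (zz ε i)⁻¹ ∉ I := by
  by_contra hcon
  push Not at hcon
  obtain ⟨hi0, hi'0⟩ := f.nz hx hi
  have hzV := zz_mem f.h.ev i
  refine f.zed hS hV2 hzV hi (E := zpowers (rr ε i i')) ?_ (fun t ht => ?_) fun y hy q hq => ?_
  · refine SetLike.lt_iff_le_and_exists.2 ⟨zpowers_le.2 hx, zz ε 0, f.z_mem, fun h0 => ?_⟩
    rcases mem_zp (rr_sq f.h.ev i i') h0 with h1 | h1
    · exact f.z_ne h1
    · exact z_ne_rr f.h f.hN.m3 hi0 hi'0 h1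
  · rcases f.comm_zz hii hx (f.OT ht) with h1 | h1 <;> rw [h1]
    · exact one_mem _
    · exact mem_zpowers _
  · have h1 : Mod D R (zz ε i) ≤ centralizer ({q} : Set G) := by
      refine Mod_le (fun d hd => mem_centralizer_singleton_iff.2 ?_) fun r hr => mem_centralizer_singleton_iff.2 ?_
      · exact (comm_of_conj (f.conj_D (f.OR hq.2) hd)).symm
      · have h2 : q * (r * zz ε i * r⁻¹ * (zz ε i)⁻¹) = (r * zz ε i * r⁻¹ * (zz ε i)⁻¹) * q :=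
          hIO _ (hcon r hr) q hq.2
        have h3 : q * zz ε i = zz ε i * q := f.h.VcQ hq.1 hzV
        have h4 : q * (r * zz ε i * r⁻¹) = (r * zz ε i * r⁻¹) * q := by
          calc q * (r * zz ε i * r⁻¹) = q * (r * zz ε i * r⁻¹ * (zz ε i)⁻¹) * zz ε i := by group
            _ = (r * zz ε i * r⁻¹ * (zz ε i)⁻¹) * (q * zz ε i) := by rw [h2]; group
            _ = (r * zz ε i * r⁻¹) * q := by rw [h3]; group
        exact h4.symm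
    exact (mem_centralizer_singleton_iff.1 (h1 hy)).symm

/-- the kernel of `R` on `M / I` -/
theorem mem_O' {M I : Subgroup G} (hM : ∀ r ∈ R, ∀ e ∈ M, r * e * r⁻¹ ∈ M) (hI : ∀ r ∈ R, ∀ e ∈ I, r * e * r⁻¹ ∈ I)
    {w : G} (hw : w ∈ M) (hwT : ∀ t ∈ T, t * w * t⁻¹ * w⁻¹ ∈ I) (hwR : ∃ r ∈ R, r * w * r⁻¹ * w⁻¹ ∉ I) {b : G}
    (hb : b ∈ T) (hc : ∀ e ∈ M, b * e * b⁻¹ * e⁻¹ ∈ I) : b ∈ o2 R := by
  let N : Subgroup G :=
    { carrier := {r | r ∈ R ∧ ∀ e ∈ M, r * e * r⁻¹ * e⁻¹ ∈ I}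
      one_mem' := ⟨one_mem _, fun e _ => by
        have : (1 : G) * e * 1⁻¹ * e⁻¹ = 1 := by group
        rw [this]; exact one_mem _⟩
      mul_mem' := by
        rintro r s ⟨hr, h2⟩ ⟨hs, h3⟩
        refine ⟨mul_mem hr hs, fun e he => ?_⟩
        have h4 : (r * s) * e * (r * s)⁻¹ * e⁻¹ = r * (s * e * s⁻¹ * e⁻¹) * r⁻¹ * (r * e * r⁻¹ * e⁻¹) := by group
        rw [h4]
        exact mul_mem (hI r hr _ (h3 e he)) (h2 e he)
      inv_mem' := by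
        rintro r ⟨hr, h2⟩
        refine ⟨inv_mem hr, fun e he => ?_⟩
        have h3 : r⁻¹ * e * r⁻¹⁻¹ ∈ M := hM _ (inv_mem hr) e he
        have h4 := h2 _ h3
        have h5 : r * (r⁻¹ * e * r⁻¹⁻¹) * r⁻¹ * (r⁻¹ * e * r⁻¹⁻¹)⁻¹ = (r⁻¹ * e * r⁻¹⁻¹ * e⁻¹)⁻¹ := by group
        rw [h5] at h4
        have := inv_mem h4
        rwa [inv_inv] at this }
  have hNR : N ≤ R := fun r hr => hr.1
  have hNn : R ≤ normalizer (N : Set G) := by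
    intro r hr
    refine mem_normalizer_of_cj_le ?_
    rintro _ ⟨s, hs, rfl⟩
    change r * s * r⁻¹ ∈ N
    refine ⟨R.mul_mem (R.mul_mem hr hs.1) (R.inv_mem hr), fun e he => ?_⟩
    have h3 : r⁻¹ * e * r⁻¹⁻¹ ∈ M := hM _ (inv_mem hr) e he
    have h4 := hs.2 _ h3
    have h5 : r * s * r⁻¹ * e * (r * s * r⁻¹)⁻¹ * e⁻¹ =
        r * (s * (r⁻¹ * e * r⁻¹⁻¹) * s⁻¹ * (r⁻¹ * e * r⁻¹⁻¹)⁻¹) * r⁻¹ := by group
    rw [h5]
    exact hI r hr _ h4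
  refine (f.of_ne hNR hNn fun h0 => ?_).2 ⟨hb, f.TR hb, hc⟩
  obtain ⟨r, hr, hrw⟩ := hwR
  apply hrw
  have hTN : T ≤ normalizer (N : Set G) := f.TR.trans hNn
  rw [← h0, sup_comm] at hr
  obtain ⟨t, ht, n, hn, rfl⟩ : ∃ t ∈ T, ∃ n ∈ N, r = t * n := SQ1.Bau.mem_sup_norm hTN hr
  have e1 : (t * n) * w * (t * n)⁻¹ * w⁻¹ = t * (n * w * n⁻¹ * w⁻¹) * t⁻¹ * (t * w * t⁻¹ * w⁻¹) := by group
  rw [e1]
  exact mul_mem (hI t (f.TR ht) _ (hn.2 w hw)) (hwT t ht)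

/-- `O₂(R) ∩ O₂(P)` does not centralise `E_i`. -/
theorem mv (hS : OutS G)
    (hV2 : ∀ g ∈ normalizer (zl (S : Subgroup G) P : Set G), g ∈ centralizer (D : Set G) →
      ∀ v ∈ zl (S : Subgroup G) P, g * v * g⁻¹ * v⁻¹ ∈ D) {i i' : Fin (2 ^ m + 1)} (hii : i ≠ i')
    (hx : rr ε i i' ∈ D) (hi : zz ε i ∉ D) :
    ∃ e ∈ Mod D R (zz ε i), ∃ q ∈ o2 P ⊓ o2 R, q * e ≠ e * q := by
  by_contra hcon
  push Not at hcon
  set M := Mod D R (zz ε i) with hM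
  have hRM : ∀ r ∈ R, ∀ e ∈ M, r * e * r⁻¹ ∈ M := fun r hr e he => f.Mod_norm hr he
  have hMW : M ≤ WW ε := f.Mod_WW (f.V_WW (zz_mem f.h.ev i))
  have hI : ∀ r ∈ R, ∀ e ∈ M ⊓ centralizer (o2 R : Set G), r * e * r⁻¹ ∈ M ⊓ centralizer (o2 R : Set G) := by
    rintro r hr e ⟨he, hec⟩
    refine ⟨hRM r hr e he, mem_centralizer_iff.2 fun b hb => ?_⟩
    have hb' : r⁻¹ * b * r⁻¹⁻¹ ∈ o2 R :=
      (mem_normalizer_iff.1 (MinSimple.VModule.le_normalizer_o2 R (inv_mem hr)) b).1 hb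
    have h2 := mem_centralizer_iff.1 hec _ hb'
    calc b * (r * e * r⁻¹) = r * ((r⁻¹ * b * r⁻¹⁻¹) * e) * r⁻¹ := by group
      _ = r * (e * (r⁻¹ * b * r⁻¹⁻¹)) * r⁻¹ := by rw [h2]
      _ = r * e * r⁻¹ * b := by group
  have h3 := f.three hS hV2 hii hx hi (I := M ⊓ centralizer (o2 R : Set G))
    fun e he b hb => mem_centralizer_iff.1 he.2 b hb
  have hcE := fun (b : G) (hb : b ∈ o2 R) (e : G) (he : e ∈ M) =>
    f.comm_Mod (f.V_WW (zz_mem f.h.ev i)) hx (fun t ht => f.comm_zz hii hx ht) hb he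
  -- `T` acts trivially on `M / C_M(O)`
  have hT : ∀ t ∈ T, ∀ e ∈ M, t * e * t⁻¹ * e⁻¹ ∈ M ⊓ centralizer (o2 R : Set G) := by
    intro t ht e he
    have htR := f.TR ht
    have het := hRM t htR e he
    refine ⟨M.mul_mem het (M.inv_mem he), mem_centralizer_iff.2 fun b hb => ?_⟩
    -- `t⁻¹ b t = b c`, `c ∈ C_O(V)`
    set b' := t⁻¹ * b * t⁻¹⁻¹ with hb'
    have hb'O : b' ∈ o2 R :=
      (mem_normalizer_iff.1 (MinSimple.VModule.le_normalizer_o2 R (inv_mem htR)) b).1 hb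
    have hbT := f.OT hb
    have hcO : b⁻¹ * b' ∈ o2 R := mul_mem (inv_mem hb) hb'O
    have hcV : ∀ v ∈ zl (S : Subgroup G) P, (b⁻¹ * b') * v * (b⁻¹ * b')⁻¹ = v := by
      intro v hv
      have g1 := hV2 t (f.T_le ht) (f.syl.1 ht) v hv
      have g2 : ∀ s ∈ T, ∀ d ∈ D, s * d * s⁻¹ = d := fun s hs d hd => f.conj_D (f.TR hs) hd
      -- `t⁻¹⁻¹ = t`
      have g3 := hV2 b (f.T_le hbT) (f.syl.1 hbT) v hv
      have g4 : t * v * t⁻¹ = (t * v * t⁻¹ * v⁻¹) * v := by group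
      have g5 : b * v * b⁻¹ = (b * v * b⁻¹ * v⁻¹) * v := by group
      have g6 : b' * v * b'⁻¹ = b * v * b⁻¹ := by
        have e1 : b' * v * b'⁻¹ = t⁻¹ * (b * (t * v * t⁻¹) * b⁻¹) * t := by rw [hb']; group
        have e2 : b * (t * v * t⁻¹) * b⁻¹ = (t * v * t⁻¹ * v⁻¹) * (b * v * b⁻¹) := by
          calc b * (t * v * t⁻¹) * b⁻¹ = (b * (t * v * t⁻¹ * v⁻¹) * b⁻¹) * (b * v * b⁻¹) := by group
            _ = _ := by rw [g2 b hbT _ g1]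
        have e3 : t⁻¹ * ((t * v * t⁻¹ * v⁻¹) * (b * v * b⁻¹)) * t =
            (t⁻¹ * (t * v * t⁻¹ * v⁻¹) * t⁻¹⁻¹) * (t⁻¹ * (b * v * b⁻¹ * v⁻¹) * t⁻¹⁻¹) * (t⁻¹ * v * t) := by group
        rw [e1, e2, e3, g2 _ (inv_mem ht) _ g1, g2 _ (inv_mem ht) _ g3]
        have e4 : t⁻¹ * v * t = t⁻¹ * (t * v * t⁻¹ * v⁻¹)⁻¹ * t⁻¹⁻¹ * v := by group
        rw [e4, g2 _ (inv_mem ht) _ (inv_mem g1)]
        have e5 : (t * v * t⁻¹ * v⁻¹) * (b * v * b⁻¹ * v⁻¹) = (b * v * b⁻¹ * v⁻¹) * (t * v * t⁻¹ * v⁻¹) :=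
          WW_comm (f.D_WW g1) (f.D_WW g3)
        rw [e5]
        group
      calc (b⁻¹ * b') * v * (b⁻¹ * b')⁻¹ = b⁻¹ * (b' * v * b'⁻¹) * b := by group
        _ = b⁻¹ * (b * v * b⁻¹) * b := by rw [g6]
        _ = v := by group
    have hcQ : b⁻¹ * b' ∈ o2 P := by
      have g1 : b⁻¹ * b' ∈ T := f.OT hcO
      have g2 : b⁻¹ * b' ∈ T ⊓ centralizer (zl (S : Subgroup G) P : Set G) :=
        ⟨g1, mem_centralizer_iff.2 fun v hv => (comm_of_conj (hcV v hv)).symm⟩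
      have g3 : o2 P ≤ T ⊓ centralizer (zl (S : Subgroup G) P : Set G) := le_inf f.QT (sylQ f.h).1
      have g4 := (sylQ f.h).2.2 _ inf_le_right (f.T2.to_le inf_le_left) g3
      rw [← g4]
      exact g2
    have hcc : ∀ e ∈ M, (b⁻¹ * b') * e * (b⁻¹ * b')⁻¹ = e := fun e he => by
      rw [hcon e he _ ⟨hcQ, hcO⟩, mul_inv_cancel_right]
    -- `[b', e] = [b, e]`
    have h4 : b' * e * b'⁻¹ = b * e * b⁻¹ := by
      calc b' * e * b'⁻¹ = b * ((b⁻¹ * b') * e * (b⁻¹ * b')⁻¹) * b⁻¹ := by group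
        _ = b * e * b⁻¹ := by rw [hcc e he]
    have h5 : b * e * b⁻¹ * e⁻¹ ∈ D := by
      rcases hcE b hb e he with h6 | h6 <;> rw [h6]
      · exact one_mem _
      · exact hx
    have h6 : b * (t * e * t⁻¹) * b⁻¹ = (b * e * b⁻¹ * e⁻¹) * (t * e * t⁻¹) := by
      calc b * (t * e * t⁻¹) * b⁻¹ = t * (b' * e * b'⁻¹) * t⁻¹ := by rw [hb']; group
        _ = t * (b * e * b⁻¹ * e⁻¹) * t⁻¹ * (t * e * t⁻¹) := by rw [h4]; group
        _ = _ := by rw [f.conj_D htR h5]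
    -- so `[b, t e t⁻¹ e⁻¹] = 1`
    refine comm_of_conj ?_
    have h7 : b * (t * e * t⁻¹ * e⁻¹) * b⁻¹ = b * (t * e * t⁻¹) * b⁻¹ * (b * e * b⁻¹)⁻¹ := by group
    rw [h7, h6]
    have h8 : (b * e * b⁻¹ * e⁻¹) * (t * e * t⁻¹) = (t * e * t⁻¹) * (b * e * b⁻¹ * e⁻¹) :=
      WW_comm (f.D_WW h5) (hMW het)
    rw [h8]
    have h9 : (b * e * b⁻¹ * e⁻¹) * (b * e * b⁻¹)⁻¹ = e⁻¹ := by
      have h10 : (b * e * b⁻¹) * e⁻¹ = e⁻¹ * (b * e * b⁻¹) :=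
        WW_comm (hMW (hRM b (f.OR hb) e he)) (inv_mem (hMW he))
      rw [h10]; group
    rw [mul_assoc, h9]
  -- so `T ≤ O`
  have hTO : T ≤ o2 R := fun t ht => f.mem_O' hRM hI (mem_Mod _ _ _) (fun t ht => hT t ht _ (mem_Mod _ _ _)) h3 ht (hT t ht)
  have hTe : o2 R = T := le_antisymm f.OT hTO
  exact f.not_le fun r hr => f.normT hr (by rw [← hTe]; exact MinSimple.VModule.le_normalizer_o2 R hr)

end Fr

end Cfsg.Agent.Omega.NO3S.SN.TwoP
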